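import Groth.Agent.AlgGrpH24.QuasiCompl
import Groth.Agent.AVDegLib.MulN
import Groth.Agent.GrpSchLib.RedSubgroup
import Groth.Agent.GrpSchLib.PerfectSmooth
import Groth.Agent.GrpSchLib.NormalKernel

/-! The quasi-complement of an abelian subvariety. -/

set_option linter.style.haveILetI false

open CategoryTheory AlgebraicGeometry MonoidalCategory CartesianMonoidalCategory MonObj Limits

namespace Groth.Agent.AlgGrpH24

universe u

variable {k : Type u} [Field k]

theorem isMonHom_of_forall_mul {C : Type*} [Category C] [CartesianMonoidalCategory C] {G H : C} [GrpObj G] [GrpObj H]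
    (f : G ⟶ H) (h : ∀ {T : C} (a b : T ⟶ G), (a * b) ≫ f = (a ≫ f) * (b ≫ f)) : IsMonHom f := by
  have h1 : (1 : 𝟙_ C ⟶ G) ≫ f = 1 := by
    have := h (1 : 𝟙_ C ⟶ G) 1
    rw [_root_.one_mul] at this
    exact mul_eq_left.1 this.symm
  have e : (1 : 𝟙_ C ⟶ G) = η[G] := by rw [Hom.one_def, toUnit_unique (toUnit _) (𝟙 _), Category.id_comp]
  have e' : (1 : 𝟙_ C ⟶ H) = η[H] := by rw [Hom.one_def, toUnit_unique (toUnit _) (𝟙 _), Category.id_comp]
  refine ⟨by rw [← e, ← e', h1], ?_⟩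
  have := h (fst G G) (snd G G)
  simp only [Hom.mul_def, lift_fst_snd, Category.id_comp] at this
  rw [this, ← lift_map, lift_fst_snd, Category.id_comp]

theorem exists_kernelGrp {G A : Over (Spec (CommRingCat.of k))} [GrpObj G] [GrpObj A] [IsSeparated A.hom]
    (φ : G ⟶ A) [IsMonHom φ] :
    ∃ (N : Over (Spec (CommRingCat.of k))) (_ : GrpObj N) (j : N ⟶ G), IsMonHom j ∧ IsClosedImmersion j.left ∧
      AlgGrp.IsKernel j φ ∧ AlgGrp.IsNormalHom j := by
  let N : Over (Spec (CommRingCat.of k)) := pullback φ η[A]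
  let j : N ⟶ G := pullback.fst φ η[A]
  have hpb : IsPullback j (toUnit N) φ η[A] := by
    rw [toUnit_unique (toUnit N) (pullback.snd φ η[A])]
    exact IsPullback.of_hasPullback φ η[A]
  haveI : IsClosedImmersion (η[A]).left := by
    haveI : IsClosedImmersion ((η[A]).left ≫ A.hom) := by rw [Over.w]; exact inferInstanceAs (IsClosedImmersion (𝟙 _))
    exact IsClosedImmersion.of_comp (η[A]).left A.hom
  haveI hj : IsClosedImmersion j.left := MorphismProperty.of_isPullback (hpb.map (Over.forget _)).flip ‹_›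
  haveI : Mono j := Over.mono_of_mono_left _
  have hone : ∀ {T : Over (Spec (CommRingCat.of k))}, toUnit T ≫ η[A] = (1 : T ⟶ A) := Hom.one_def.symm
  have hlift : ∀ {T : Over (Spec (CommRingCat.of k))} (g : T ⟶ G), g ≫ φ = 1 → ∃ n : T ⟶ N, n ≫ j = g :=
    fun g hg => ⟨hpb.lift g (toUnit _) (hg.trans hone.symm), hpb.lift_fst _ _ _⟩
  have hker : ∀ {T : Over (Spec (CommRingCat.of k))} (n : T ⟶ N), (n ≫ j) ≫ φ = 1 := fun n => by
    rw [Category.assoc, hpb.w, ← Category.assoc, comp_toUnit, hone]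
  obtain ⟨e, he⟩ := hlift η[G] (by
    rw [IsMonHom.one_hom, Hom.one_def, toUnit_unique (toUnit _) (𝟙 _), Category.id_comp])
  obtain ⟨m, hm⟩ := hlift ((fst N N ≫ j) * (snd N N ≫ j)) (by rw [MonObj.mul_comp, hker, hker, _root_.one_mul])
  obtain ⟨v, hv⟩ := hlift j⁻¹ (by
    have := hker (𝟙 N)
    rw [Category.id_comp] at this
    rw [GrpObj.inv_comp, this, inv_one])
  obtain ⟨str, hi⟩ := GrpSchLib.exists_grpObj_of_mono j e he m hm v hv
  refine ⟨N, str, j, hi, hj, hpb, fun T g n => ?_⟩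
  obtain ⟨n', hn'⟩ := hlift (g * (n ≫ j) * g⁻¹) (by
    rw [MonObj.mul_comp, MonObj.mul_comp, GrpObj.inv_comp, hker, _root_.mul_one, mul_inv_cancel])
  exact ⟨n', hn'.symm⟩

variable {G A : Over (Spec (CommRingCat.of k))} [GrpObj G] [GrpObj A]

/-- The multiplication from `A × ker φ` is the base change of `[n]` along `φ`. -/
theorem isPullback_mul_ker [IsCommMonObj A] {N : Over (Spec (CommRingCat.of k))} [GrpObj N] (i : A ⟶ G) [IsMonHom i]
    (j : N ⟶ G) [Mono j] (φ : G ⟶ A) [IsMonHom φ] (hker : AlgGrp.IsKernel j φ) (n : ℕ) (hin : i ≫ φ = 𝟙 A ^ n) :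
    IsPullback ((i ⊗ₘ j) ≫ μ[G]) (fst A N) φ (𝟙 A ^ n) := by
  have hmul : ∀ {T : Over (Spec (CommRingCat.of k))} (a : T ⟶ A) (m : T ⟶ N),
      lift a m ≫ (i ⊗ₘ j) ≫ μ[G] = (a ≫ i) * (m ≫ j) := fun a m => by
    rw [lift_map_assoc, Hom.mul_def]
  have hi : ∀ {T : Over (Spec (CommRingCat.of k))} (a : T ⟶ A), (a ≫ i) ≫ φ = a ^ n := fun a => by
    rw [Category.assoc, hin, MonObj.comp_pow, Category.comp_id]
  have hj : ∀ {T : Over (Spec (CommRingCat.of k))} (m : T ⟶ N), (m ≫ j) ≫ φ = 1 := fun m => by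
    rw [Category.assoc, hker.w, ← Category.assoc, comp_toUnit, ← Hom.one_def]
  have w : ((i ⊗ₘ j) ≫ μ[G]) ≫ φ = fst A N ≫ 𝟙 A ^ n := by
    have := hmul (fst A N) (snd A N)
    rw [lift_fst_snd, Category.id_comp] at this
    rw [this, MonObj.mul_comp, hi, hj, _root_.mul_one, MonObj.comp_pow, Category.comp_id]
  refine IsPullback.of_isLimit' ⟨w⟩ (PullbackCone.IsLimit.mk _
    (fun s => lift s.snd (hker.lift ((s.snd ≫ i)⁻¹ * s.fst) (toUnit _) ?_))
    (fun s => ?_) (fun s => lift_fst _ _) fun s m h1 h2 => ?_)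
  · rw [MonObj.mul_comp, GrpObj.inv_comp, hi, s.condition, MonObj.comp_pow, Category.comp_id, inv_mul_cancel,
      ← Hom.one_def]
  · rw [hmul, hker.lift_fst, mul_inv_cancel_left]
  · apply CartesianMonoidalCategory.hom_ext
    · rw [lift_fst, h2]
    · rw [lift_snd, ← cancel_mono j, hker.lift_fst, ← h1,
        show m ≫ (i ⊗ₘ j) ≫ μ[G] = (s.snd ≫ i) * ((m ≫ snd A N) ≫ j) by
          rw [← h2, ← hmul, ← comp_lift_assoc, lift_fst_snd, Category.id_comp],
        inv_mul_cancel_left]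

/-- The intersection with a subgroup inside `ker φ` is finite. -/
theorem isFinite_inter [IsProper A.hom] [GeometricallyIntegral A.hom] {M : Over (Spec (CommRingCat.of k))}
    (i : A ⟶ G) [IsSeparated G.hom] (j : M ⟶ G) [IsClosedImmersion j.left] (φ : G ⟶ A)
    (hj : j ≫ φ = toUnit M ≫ η[A]) (n : ℕ) (hn : 0 < n) (hin : i ≫ φ = 𝟙 A ^ n) :
    IsFinite (pullback.fst i.left j.left ≫ A.hom) := by
  haveI := AVMulN.isFinite_pow (A := A) n hn
  let K : Over (Spec (CommRingCat.of k)) := pullback (𝟙 A ^ n : A ⟶ A) η[A]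
  haveI : IsFinite K.hom := by
    have h := (IsPullback.of_hasPullback (𝟙 A ^ n : A ⟶ A) η[A]).map (Over.forget _)
    haveI : IsFinite (pullback.snd (𝟙 A ^ n : A ⟶ A) η[A]).left := MorphismProperty.of_isPullback h ‹_›
    rw [← Over.w (pullback.snd (𝟙 A ^ n : A ⟶ A) η[A])]
    exact inferInstanceAs (IsFinite (_ ≫ 𝟙 _))
  let P : Over (Spec (CommRingCat.of k)) := Over.mk (pullback.fst i.left j.left ≫ A.hom)
  let a : P ⟶ A := Over.homMk (pullback.fst i.left j.left) rfl
  let b : P ⟶ M := Over.homMk (pullback.snd i.left j.left) (by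
    show _ ≫ M.hom = _ ≫ A.hom
    rw [← Over.w j, ← reassoc_of% (pullback.condition (f := i.left) (g := j.left)), Over.w])
  have hab : a ≫ i = b ≫ j := Over.OverMorphism.ext pullback.condition
  let c : P ⟶ K := pullback.lift a (toUnit P) (by
    rw [← hin, reassoc_of% hab, hj, ← Category.assoc, comp_toUnit])
  haveI : IsClosedImmersion a.left := inferInstanceAs (IsClosedImmersion (pullback.fst i.left j.left))
  haveI : IsClosedImmersion (pullback.fst (𝟙 A ^ n : A ⟶ A) η[A]).left := by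
    haveI : IsClosedImmersion (η[A]).left := by
      haveI : IsClosedImmersion ((η[A]).left ≫ A.hom) := by rw [Over.w]; exact inferInstanceAs (IsClosedImmersion (𝟙 _))
      exact IsClosedImmersion.of_comp (η[A]).left A.hom
    exact MorphismProperty.of_isPullback ((IsPullback.of_hasPullback (𝟙 A ^ n : A ⟶ A) η[A]).map (Over.forget _)).flip ‹_›
  haveI : IsClosedImmersion (c.left ≫ (pullback.fst (𝟙 A ^ n : A ⟶ A) η[A]).left) := by
    rw [← Over.comp_left, pullback.lift_fst]; infer_instance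
  haveI : IsClosedImmersion c.left := IsClosedImmersion.of_comp c.left (pullback.fst (𝟙 A ^ n : A ⟶ A) η[A]).left
  show IsFinite P.hom
  rw [← Over.w c]
  infer_instance

theorem isMonHom_mul_central {M : Over (Spec (CommRingCat.of k))} [GrpObj M] (i : A ⟶ G) [IsMonHom i]
    (h : M ⟶ G) [IsMonHom h]
    (hc : ∀ {T : Over (Spec (CommRingCat.of k))} (a : T ⟶ A) (g : T ⟶ G), (a ≫ i) * g = g * (a ≫ i)) :
    IsMonHom ((i ⊗ₘ h) ≫ μ[G]) := by
  have hsep : ∀ {T : Over (Spec (CommRingCat.of k))} (p : T ⟶ A ⊗ M),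
      p ≫ (i ⊗ₘ h) ≫ μ[G] = ((p ≫ fst A M) ≫ i) * ((p ≫ snd A M) ≫ h) := fun p => by
    rw [Hom.mul_def, ← lift_map_assoc, ← comp_lift_assoc, lift_fst_snd, Category.id_comp]
  refine isMonHom_of_forall_mul _ fun {T} a b => ?_
  rw [hsep, hsep, hsep, MonObj.mul_comp, MonObj.mul_comp, MonObj.mul_comp, MonObj.mul_comp,
    _root_.mul_assoc, ← _root_.mul_assoc ((b ≫ fst A M) ≫ i), hc (b ≫ fst A M)]
  group

/-- An abelian subvariety has an almost complement. -/
theorem exists_almostComplement [Smooth G.hom] [QuasiCompact G.hom] [ConnectedSpace G.left]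
    (i : A ⟶ G) [IsMonHom i] [IsClosedImmersion i.left] [Smooth A.hom] [ConnectedSpace A.left] [IsProper A.hom] :
    ∃ (N : Over (Spec (CommRingCat.of k))) (_ : GrpObj N) (j : N ⟶ G), IsMonHom j ∧ IsClosedImmersion j.left ∧
      AlgGrp.IsNormalHom j ∧
      (∀ (T : Over (Spec (CommRingCat.of k))) (a : T ⟶ A) (n : T ⟶ N), (a ≫ i) * (n ≫ j) = (n ≫ j) * (a ≫ i)) ∧
      Flat ((i ⊗ₘ j) ≫ μ[G]).left ∧ Surjective ((i ⊗ₘ j) ≫ μ[G]).left ∧
      IsFinite (pullback.fst i.left j.left ≫ A.hom) ∧ (PerfectField k → Smooth N.hom) := by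
  haveI := geometricallyIntegral_grp A
  haveI := isCommMonObj_of_isProper_of_geometricallyIntegral A
  haveI : IsSeparated G.hom := GrpSchLib.AntiAffine.isSeparated_grp G
  have hc : ∀ {T : Over (Spec (CommRingCat.of k))} (a : T ⟶ A) (g : T ⟶ G), (a ≫ i) * g = g * (a ≫ i) :=
    fun a g => central_of_proper i a g
  obtain ⟨φ, n, hn, hφm, hin, -⟩ := exists_quasiRetraction i
  haveI := hφm
  obtain ⟨N, _, j, hjm, hjc, hker, hnorm⟩ := exists_kernelGrp φ
  haveI := hjm; haveI := hjc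
  haveI : Mono j := Over.mono_of_mono_left _
  haveI := AVMulN.isFinite_pow (A := A) n hn
  haveI := AVDegLib.flat_pow (A := A) n hn
  haveI := AVMulN.surjective_pow (A := A) n hn
  have hpb := (isPullback_mul_ker i j φ hker n hin).map (Over.forget _)
  haveI hfl : Flat ((i ⊗ₘ j) ≫ μ[G]).left := MorphismProperty.of_isPullback hpb.flip ‹Flat (𝟙 A ^ n : A ⟶ A).left›
  haveI hsu : Surjective ((i ⊗ₘ j) ≫ μ[G]).left :=
    MorphismProperty.of_isPullback hpb.flip ‹Surjective (𝟙 A ^ n : A ⟶ A).left›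
  by_cases hp : PerfectField k
  swap
  · exact ⟨N, inferInstance, j, hjm, hjc, hnorm, fun T a m => hc a _, hfl, hsu,
      isFinite_inter i j φ hker.w n hn hin, fun h => absurd h hp⟩
  haveI : LocallyOfFiniteType N.hom := by rw [← Over.w j]; infer_instance
  haveI : QuasiCompact N.hom := by rw [← Over.w j]; infer_instance
  obtain ⟨M, _, r, hrm, hrc, hMr, hrs, hMl, hMq⟩ := GrpSchLib.RedSubgroup.exists_redSubgroup N
  haveI := hrm; haveI := hrc; haveI := hrs; haveI := hMl; haveI := hMq; haveI := hMr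
  haveI hMs : Smooth M.hom := GrpSchLib.smooth_of_perfectField_of_isReduced M
  haveI : IsClosedImmersion (r ≫ j).left := by rw [Over.comp_left]; infer_instance
  have hmul : (i ⊗ₘ (r ≫ j)) ≫ μ[G] = (A ◁ r) ≫ (i ⊗ₘ j) ≫ μ[G] := by
    rw [← id_tensorHom, tensorHom_comp_tensorHom_assoc, Category.id_comp]
  haveI : IsMonHom ((i ⊗ₘ (r ≫ j)) ≫ μ[G]) := isMonHom_mul_central i (r ≫ j) hc
  haveI hsu' : Surjective ((i ⊗ₘ (r ≫ j)) ≫ μ[G]).left := by
    haveI : Surjective (A ◁ r).left := property_whiskerLeft' A r @Surjective hrs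
    rw [hmul, Over.comp_left]
    infer_instance
  haveI : QuasiCompact ((i ⊗ₘ (r ≫ j)) ≫ μ[G]).left := by
    haveI : QuasiCompact (A ⊗ M).hom := inferInstanceAs (QuasiCompact (pullback.fst A.hom M.hom ≫ A.hom))
    haveI : QuasiCompact (((i ⊗ₘ (r ≫ j)) ≫ μ[G]).left ≫ G.hom) := by rw [Over.w]; infer_instance
    exact QuasiCompact.of_comp _ G.hom
  haveI : LocallyOfFiniteType (A ⊗ M).hom :=
    inferInstanceAs (LocallyOfFiniteType (pullback.fst A.hom M.hom ≫ A.hom))
  haveI : IsReduced G.left := H23.RigidGamma.isReduced_of_smooth G.hom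
  refine ⟨M, inferInstance, r ≫ j, inferInstance, inferInstance, fun T g m => ?_, fun T a m => hc a _,
    GrpSchLib.flat_of_surjective_hom _, hsu', isFinite_inter i (r ≫ j) φ ?_ n hn hin, fun _ => hMs⟩
  · haveI : IsReduced (G ⊗ M).left := GrpSchLib.isReduced_pullback_of_perfectField G.hom M.hom
    obtain ⟨n', hn'⟩ := hnorm (G ⊗ M) (fst G M) (snd G M ≫ r)
    obtain ⟨l, hl⟩ := H23.RedSub.exists_lift_closed n'.left r.left
      (by rw [r.left.surjective.range_eq]; exact Set.subset_univ _)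
    let c : G ⊗ M ⟶ M := Over.homMk l (by rw [← Over.w r, reassoc_of% hl, Over.w n'])
    have hcr : c ≫ r = n' := Over.OverMorphism.ext hl
    refine ⟨lift g m ≫ c, ?_⟩
    have := congrArg (lift g m ≫ ·) hn'
    simp only [MonObj.comp_mul, GrpObj.comp_inv, lift_fst, lift_snd_assoc, Category.assoc] at this
    simp only [Category.assoc, reassoc_of% hcr]
    exact this
  · rw [Category.assoc, hker.w, ← Category.assoc, comp_toUnit]

end Groth.Agent.AlgGrpH24
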