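import Groth.Agent.AGF27.Unip.Scheme
import Groth.Agent.AGF27.Unip.Torus
import Groth.Agent.AGFHopf.UniApps
import Groth.Agent.AGFHopf.TrigStruct
import Groth.Agent.AGFHopf.PImage
import Groth.Agent.ComodLib.PrimCriteria
import Groth.Agent.ComodLib.Trig
import Groth.Agent.AGF27.Solvable
import Groth.Agent.AGFHopf.SchTor
import Groth.Agent.GITQuot.Successive
import Groth.Agent.GrpSchLib.HomClosedRange
import Groth.Agent.S17465
import Groth.Agent.AlgGrp25.TorusUnip

/-!
# Commutative affine groups with few unipotent points are tori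
-/

universe u

open CategoryTheory CategoryTheory.Limits MonoidalCategory CartesianMonoidalCategory MonObj AlgebraicGeometry
open TensorProduct WithConv
open Groth.Agent.GrpSchLib Groth.Agent.GrpSchLib.Kunneth
open scoped Groth.Agent.AGF27

set_option linter.style.haveILetI false

namespace Groth.Agent.AlgGrpH24.CommTorus

variable {K : Type u} [Field K] [IsAlgClosed K]

section Hopf

variable {A : Type u} [CommRing A] [HopfAlgebra K A]

theorem eq_algebraMap_of_pow_eq_one [IsDomain A] {g : A} {n : ℕ} (hn : 0 < n) (h : g ^ n = 1) :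
    ∃ c : K, g = algebraMap K A c := by
  have hint : IsIntegral K g :=
    ⟨Polynomial.X ^ n - Polynomial.C 1, Polynomial.monic_X_pow_sub_C 1 hn.ne', by simp [h]⟩
  haveI : Algebra.IsIntegral K (Algebra.adjoin K {g}) := Algebra.IsIntegral.adjoin fun x hx => by
    rw [Set.mem_singleton_iff] at hx
    exact hx ▸ hint
  have hmem := IsAlgClosed.algebraMap_bijective_of_isIntegral (k := K) (K := Algebra.adjoin K {g})
  obtain ⟨c, hc⟩ := hmem.2 ⟨g, Algebra.self_mem_adjoin_singleton K g⟩
  exact ⟨c, congrArg Subtype.val hc.symm⟩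

/-- A torsion-free lattice of group-like elements controlling the unipotent part. -/
theorem exists_lattice [Algebra.FiniteType K A] [IsDomain A] (htrig : HopfRep.IsTrigonalizable K A) :
    ∃ (r : ℕ) (ψ : MonoidAlgebra K (Multiplicative (Fin r → ℤ)) →ₐc[K] A) (J : Ideal A) (_ : J.IsHopfIdeal K),
      Function.Injective ψ ∧ HopfRep.IsUnipotent K (A ⧸ J) ∧
      ∀ y : A →ₐ[K] K, (∀ b, y (ψ b) = Bialgebra.counitAlgHom K _ b) →
        (∀ a ∈ J, y a = 0) ∧ ∀ g : A, IsGroupLikeElem K g → y g = 1 := by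
  classical
  obtain ⟨B, _, _, φ, J, hJh, -, hB, hJ, hU⟩ := AGFHopf.exists_of_isTrigonalizable htrig
  haveI : IsNoetherianRing A := Algebra.FiniteType.isNoetherianRing K A
  let d : GroupLike K A → A := fun g => g.val - 1
  obtain ⟨s, hs, hspan⟩ :=
    (Submodule.fg_span_iff_fg_span_finset_subset (R := A) (Set.range d)).mp (IsNoetherian.noetherian _)
  choose pre hpre using fun a : ↥(s : Set A) => hs a.2
  let M : Subgroup (GroupLike K A) := Subgroup.closure (Set.range pre)
  haveI : Group.FG M := Group.closure_finite_fg _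
  haveI : Module.Finite ℤ (Additive M) := Module.Finite.iff_addGroup_fg.mpr inferInstance
  haveI : IsAddTorsionFree (Additive M) := by
    refine IsAddTorsionFree.of_not_isOfFinAddOrder fun x hx hfin => hx ?_
    obtain ⟨n, hn, hxn⟩ := isOfFinAddOrder_iff_nsmul_eq_zero.mp hfin
    have h1 : ((Additive.toMul x : M) : GroupLike K A).val ^ n = 1 := by
      have h0 : (Additive.toMul x) ^ n = 1 := hxn
      have := congrArg (fun m : M => (m : GroupLike K A).val) h0
      simpa using this
    obtain ⟨c, hc⟩ := eq_algebraMap_of_pow_eq_one (K := K) hn h1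
    have hε := (((Additive.toMul x : M) : GroupLike K A).2 : IsGroupLikeElem K ((Additive.toMul x : M) : GroupLike K A).val).counit_eq_one
    rw [hc, Bialgebra.counit_algebraMap] at hε
    rw [hε, map_one] at hc
    exact Additive.toMul.injective (Subtype.ext (GroupLike.ext hc))
  haveI : Module.Free ℤ (Additive M) := Module.free_of_finite_type_torsion_free'
  let b := Module.finBasis ℤ (Additive M)
  let f : Multiplicative (Fin (Module.finrank ℤ (Additive M)) → ℤ) →* GroupLike K A :=
    M.subtype.comp b.equivFun.symm.toAddEquiv.toAddMonoidHom.toMultiplicativeLeft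
  have hf : Function.Injective f := M.subtype_injective.comp fun a a' h => b.equivFun.symm.injective h
  have hfM : ∀ m ∈ M, ∃ a, f a = m := fun m hm =>
    ⟨Multiplicative.ofAdd (b.equivFun (Additive.ofMul ⟨m, hm⟩)), by simp [f]⟩
  let ψ : MonoidAlgebra K (Multiplicative (Fin (Module.finrank ℤ (Additive M)) → ℤ)) →ₐc[K] A :=
    MonoidAlgebra.liftGroupLikeBialgHom.comp (MonoidAlgebra.mapDomainBialgHom K f)
  have hψ1 : ∀ a, ψ (MonoidAlgebra.single a 1) = (f a).val := fun a => by simp [ψ]
  refine ⟨_, ψ, J, hJh, ?_, hU, fun y hy => ?_⟩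
  · have hli : LinearIndependent K (fun a => (f a).val) :=
      linearIndepOn_isGroupLikeElem.linearIndependent.comp
        (fun a => (⟨(f a).val, (f a).2⟩ : {x : A // IsGroupLikeElem K x})) fun a a' e =>
        hf (GroupLike.ext (congrArg Subtype.val e))
    intro z z' hzz
    have e : ∀ z, ψ z = Finsupp.linearCombination K (fun a => (f a).val) ((MonoidAlgebra.basis _ K).repr z) := by
      intro z
      refine LinearMap.congr_fun (f := (ψ : _ →ₗ[K] A))
        (g := (Finsupp.linearCombination K fun a => (f a).val) ∘ₗ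
          (MonoidAlgebra.basis _ K).repr.toLinearMap) ((MonoidAlgebra.basis _ K).ext fun a => ?_) z
      simp only [LinearMap.comp_apply, LinearEquiv.coe_coe, Module.Basis.repr_self, Finsupp.linearCombination_single, one_smul]
      rw [MonoidAlgebra.basis_apply]
      exact hψ1 a
    rw [e, e] at hzz
    exact (MonoidAlgebra.basis _ K).repr.injective (hli hzz)
  · have hgen : ∀ a ∈ (s : Set A), y a = 0 := fun a ha => by
      obtain ⟨m, hm⟩ := hfM (pre ⟨a, ha⟩) (Subgroup.subset_closure ⟨_, rfl⟩)
      rw [show a = (pre ⟨a, ha⟩).val - 1 from (hpre ⟨a, ha⟩).symm, map_sub, map_one, ← hm, ← hψ1, hy]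
      simp
    have hd : Submodule.span A (Set.range d) ≤ RingHom.ker (y : A →+* K) := by
      rw [hspan]
      exact Submodule.span_le.mpr fun a ha => hgen a ha
    have hg : ∀ g : A, IsGroupLikeElem K g → y g = 1 := fun g hg => by
      have := hd (Submodule.subset_span ⟨⟨g, hg⟩, rfl⟩)
      simpa [d, sub_eq_zero] using this
    refine ⟨fun a ha => ?_, hg⟩
    suffices h : ∀ z : B, y (φ z) = Bialgebra.counitAlgHom K B z by
      have : J ≤ RingHom.ker (y : A →+* K) := by
        rw [hJ, Ideal.map_le_iff_le_comap]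
        intro z hz
        show y (φ z) = 0
        rw [h]
        exact hz
      exact this ha
    intro z
    refine LinearMap.congr_fun (f := (y.comp (φ : B →ₐ[K] A)).toLinearMap)
      (g := (Bialgebra.counitAlgHom K B).toLinearMap) (LinearMap.ext_on hB ?_) z
    intro g hgl
    show y (φ g) = Bialgebra.counitAlgHom K B g
    rw [hg _ (hgl.map φ)]
    exact hgl.counit_eq_one.symm

end Hopf

variable (L : Over (Spec (CommRingCat.of K))) [GrpObj L] [IsAffine L.left] [Smooth L.hom] [ConnectedSpace L.left]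
  [IsCommMonObj L]

local notation "P" => AffineHopf.sp K K

/-- A commutative connected affine group maps onto a torus with unipotent kernel, at the level of points. -/
theorem exists_torus_quot :
    ∃ (D : Over (Spec (CommRingCat.of K))) (_ : GrpObj D) (v : L ⟶ D),
      IsMonHom v ∧ Surjective v.left ∧ Red.IsTorus D ∧
      (∀ (p : ℕ) [Fact p.Prime] [CharP K p], ∃ e : ℕ, ∀ x : P ⟶ L, x ≫ v = 1 → x ^ p ^ e = 1) ∧
      ∀ (T : Over (Spec (CommRingCat.of K))) [GrpObj T] (w : L ⟶ T) [IsMonHom w], Red.IsTorus T →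
        ∀ x : P ⟶ L, x ≫ v = 1 → x ≫ w = 1 := by
  haveI : LocallyOfFiniteType L.hom := inferInstance
  haveI := AGF27.isDomain_fn (G := L)
  obtain ⟨A, _, _, ⟨e⟩⟩ := AffineHopf.exists_hopf L
  obtain ⟨φ, -⟩ := AGF27.exists_bialgEquiv_fn e
  haveI : Algebra.FiniteType K A :=
    .of_surjective ((φ : Fn L →ₐc[K] A) : Fn L →ₐ[K] A) φ.surjective
  haveI : IsDomain A := φ.symm.toAlgEquiv.injective.isDomain φ.symm.toAlgEquiv.toRingHom
  have htrig : HopfRep.IsTrigonalizable K A :=
    ComodLib.isTrigonalizable_of_surjective (φ : Fn L →ₐc[K] A) φ.surjective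
      (AGF27.isTrigonalizable_fn (G := L) ⟨1, by
        rw [derivedSeries_one, commutator_def, Subgroup.commutator_eq_bot_iff_le_centralizer]
        intro a _ b _
        exact mul_comm b a⟩)
  obtain ⟨r, ψ, J, hJh, hψ, hU, hpts⟩ := exists_lattice htrig
  let E : AffineHopf.sp K A ≅ L := (Grp.forget _).mapIso e
  haveI hE : IsMonHom E.hom := e.hom.hom.isMonHom_hom
  haveI hE' : IsMonHom E.inv := e.inv.hom.isMonHom_hom
  let v : L ⟶ AffineHopf.sp K (MonoidAlgebra K (Multiplicative (Fin r → ℤ))) :=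
    E.inv ≫ AffineHopf.spMap (ψ : MonoidAlgebra K (Multiplicative (Fin r → ℤ)) →ₐ[K] A)
  have key : ∀ x : P ⟶ L, x ≫ v = 1 → ∃ y : A →ₐ[K] K, x = AffineHopf.spMap y ≫ E.hom ∧
      (∀ a ∈ J, y a = 0) ∧ ∀ g : A, IsGroupLikeElem K g → y g = 1 := fun x hx => by
    obtain ⟨y, hy⟩ := AffineHopf.exists_eq_spMap (x ≫ E.inv)
    refine ⟨y, by rw [← hy, Category.assoc, E.inv_hom_id, Category.comp_id], hpts y fun b => ?_⟩
    have h1 : AffineHopf.spMap (y.comp (ψ : MonoidAlgebra K (Multiplicative (Fin r → ℤ)) →ₐ[K] A)) =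
        AffineHopf.spMap (R := K) (1 : WithConv (MonoidAlgebra K (Multiplicative (Fin r → ℤ)) →ₐ[K] K)).ofConv := by
      rw [← AffineHopf.spMap_comp, ← hy, Category.assoc, hx, AffineHopf.spMap_eq_mapMulEquiv, toConv_ofConv, map_one]
    rw [show y (ψ b) = y.comp (ψ : MonoidAlgebra K (Multiplicative (Fin r → ℤ)) →ₐ[K] A) b from rfl, AffineHopf.spMap_injective h1, AlgHom.convOne_apply]
    simp
  refine ⟨_, inferInstance, v, inferInstance, ?_, AGF27.Torus.isTorus_sp_monoidAlgebra K r, fun p _ _ => ?_,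
    fun T _ w _ hT x hx => ?_⟩
  · -- surjectivity
    haveI : Surjective (AffineHopf.spMap (ψ : MonoidAlgebra K (Multiplicative (Fin r → ℤ)) →ₐ[K] A)).left := by
      haveI : LocallyOfFiniteType (AffineHopf.sp K A).hom :=
        HasRingHomProperty.Spec_iff.mpr (RingHom.finiteType_algebraMap.mpr inferInstance)
      haveI : IsAffineHom (AffineHopf.spMap (ψ : MonoidAlgebra K (Multiplicative (Fin r → ℤ)) →ₐ[K] A)).left :=
        inferInstanceAs (IsAffineHom (Spec.map _))
      haveI : LocallyOfFiniteType (AffineHopf.sp K (MonoidAlgebra K (Multiplicative (Fin r → ℤ)))).hom := by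
        haveI : AddGroup.FG (Fin r → ℤ) := Module.Finite.iff_addGroup_fg.mp inferInstance
        haveI : AddMonoid.FG (Fin r → ℤ) := AddGroup.fg_iff_addMonoid_fg.mp inferInstance
        haveI : Monoid.FG (Multiplicative (Fin r → ℤ)) := Monoid.fg_of_addMonoid_fg
        exact HasRingHomProperty.Spec_iff.mpr (RingHom.finiteType_algebraMap.mpr inferInstance)
      have hcl := HomClosedRange.isClosed_range (AffineHopf.spMap (ψ : MonoidAlgebra K (Multiplicative (Fin r → ℤ)) →ₐ[K] A))
      refine ⟨fun z => ?_⟩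
      have hd : DenseRange (AffineHopf.spMap (ψ : MonoidAlgebra K (Multiplicative (Fin r → ℤ)) →ₐ[K] A)).left :=
        PrimeSpectrum.denseRange_comap_iff_ker_le_nilRadical _ |>.mpr
          (fun a ha => by
            have ha' : ψ a = 0 := ha
            rw [hψ (ha'.trans (map_zero ψ).symm)]
            exact zero_mem _)
      exact (hcl.closure_eq ▸ hd z :)
    haveI : IsIso E.inv.left := inferInstanceAs (IsIso ((Over.forget _).mapIso E).inv)
    show Surjective (E.inv ≫ _).left
    rw [Over.comp_left]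
    infer_instance
  · -- unipotent
    obtain ⟨n, M, hM, hgen⟩ := AGFHopf.exists_generating_uniMatrix hU
    refine ⟨n + 1, fun x hx => ?_⟩
    obtain ⟨y, rfl, hyJ, -⟩ := key x hx
    have h0 := AGFHopf.pow_char_pow_eq_one p hM hgen (toConv (Ideal.Quotient.liftₐ J y hyJ))
    let π : A →ₐc[K] A ⧸ J := Bialgebra.Quotient.mkBialgHom J
    have h1 : toConv y = AGFHopf.ptMapHom π (toConv (Ideal.Quotient.liftₐ J y hyJ)) :=
      WithConv.ofConv_injective (AlgHom.ext fun a => rfl)
    have h2 : toConv y ^ p ^ (n + 1) = 1 := by rw [h1, ← map_pow, h0, map_one]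
    rw [← MonObj.pow_comp, AffineHopf.spMap_eq_mapMulEquiv, ← map_pow, h2, map_one, MonObj.one_comp]
  · -- characters
    obtain ⟨y, rfl, -, hyg⟩ := key x hx
    obtain ⟨r', ⟨eT⟩⟩ := AGFHopf.torus_iso hT
    let ET : T ≅ AffineHopf.sp K (MonoidAlgebra K (Multiplicative (Fin r' → ℤ))) := (Grp.forget _).mapIso eT
    haveI : IsMonHom ET.hom := eT.hom.hom.isMonHom_hom
    haveI : IsMonHom ET.inv := eT.inv.hom.isMonHom_hom
    obtain ⟨χ, hχ⟩ := AffineHopf.exists_bialgHom (E.hom ≫ w ≫ ET.hom)
    suffices h : (AffineHopf.spMap y ≫ E.hom) ≫ w ≫ ET.hom = 1 by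
      calc (AffineHopf.spMap y ≫ E.hom) ≫ w = ((AffineHopf.spMap y ≫ E.hom) ≫ w ≫ ET.hom) ≫ ET.inv := by
            simp only [Category.assoc, ET.hom_inv_id, Category.comp_id]
        _ = 1 := by rw [h, MonObj.one_comp]
    rw [Category.assoc, hχ, AffineHopf.spMap_comp, AffineHopf.spMap_eq_mapMulEquiv, ← map_one Spec.mapMulEquiv]
    refine congrArg _ (WithConv.ofConv_injective (MonoidAlgebra.algHom_ext (fun a => ?_) (by ext)))
    rw [ofConv_toConv, AlgHom.convOne_apply]
    show y (χ (MonoidAlgebra.single a 1)) = _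
    rw [hyg _ ((MonoidAlgebra.isGroupLikeElem_single_one a).map χ)]
    simp

/-- A group with a homomorphism to a torus with finitely many points in the kernel is a torus. -/
theorem isTorus_of_finite_kernel [QuasiCompact L.hom] {D : Over (Spec (CommRingCat.of K))} [GrpObj D] (v : L ⟶ D)
    [IsMonHom v] [Surjective v.left] (hD : Red.IsTorus D) (h : {x : P ⟶ L | x ≫ v = 1}.Finite) :
    Red.IsTorus L := by
  haveI : LocallyOfFiniteType D.hom := (AlgGrp25.TorusUnip.lft_qc_torus hD).1
  haveI : QuasiCompact D.hom := (AlgGrp25.TorusUnip.lft_qc_torus hD).2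
  obtain ⟨hDs, hDc⟩ := AGFHopf.smooth_connected_torus hD
  haveI := hDs; haveI := hDc
  haveI : IsAffineHom D.hom := (TransLib.multTypeFT_essFree (Sga3xB.isMultTypeFT_of_isTorus hD)).1
  haveI : IsAffine D.left := isAffine_of_isAffineHom D.hom
  haveI : IsSeparated D.hom := inferInstance
  haveI : IsCommMonObj D := by
    obtain ⟨r, ⟨eD⟩⟩ := AGFHopf.torus_iso hD
    let ED : D ≅ AffineHopf.sp K (MonoidAlgebra K (Multiplicative (Fin r → ℤ))) := (Grp.forget _).mapIso eD
    haveI : IsMonHom ED.hom := eD.hom.hom.isMonHom_hom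
    refine ⟨?_⟩
    rw [← cancel_mono ED.hom, Category.assoc, IsMonHom.mul_hom, ← BraidedCategory.braiding_naturality_assoc,
      IsCommMonObj.mul_comm]
  refine (S17465.result K L D v ⟨inferInstance, fun N i hik => ?_⟩).mpr hD
  haveI hic : IsClosedImmersion i.left := by
    haveI : IsClosedImmersion η[D].left := inferInstance
    exact MorphismProperty.of_isPullback (hik.map (Over.forget _)).flip ‹IsClosedImmersion η[D].left›
  haveI : IsAffine N.left := isAffine_of_isAffineHom i.left
  haveI : LocallyOfFiniteType N.hom := by rw [← Over.w i]; infer_instance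
  haveI : IsAffineHom N.hom := isAffineHom_of_isAffine N.hom
  haveI : Mono i := Over.mono_of_mono_left _
  rw [GITQuot.Successive.isFinite_iff_finite_points (Iso.refl _) N.hom]
  haveI := h.to_subtype
  refine Finite.of_injective
    (fun s => (⟨(Over.homMk s.1 (s.2.trans (show 𝟙 _ = Spec.map (𝟙 (CommRingCat.of K)) from (Spec.map_id _).symm)) : P ⟶ N) ≫ i, by
      show (_ ≫ i) ≫ v = 1
      rw [Category.assoc, hik.w, ← Category.assoc, comp_toUnit, ← Hom.one_def]⟩ : {x : P ⟶ L | x ≫ v = 1})) ?_
  intro s s' hs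
  exact Subtype.ext (congrArg CommaMorphism.left ((cancel_mono i).1 (congrArg Subtype.val hs)))

/-- A group with finitely many points killed by powers of `p` is a torus. -/
theorem isTorus_of_finite_torsion [QuasiCompact L.hom] (p : ℕ) [Fact p.Prime] [CharP K p]
    (h : ∀ e : ℕ, {x : P ⟶ L | x ^ p ^ e = 1}.Finite) : Red.IsTorus L := by
  obtain ⟨D, _, v, hvm, hvs, hD, hunip, -⟩ := exists_torus_quot L
  obtain ⟨e, he⟩ := hunip p
  exact isTorus_of_finite_kernel L v hD ((h e).subset fun x hx => he x hx)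

end Groth.Agent.AlgGrpH24.CommTorus
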