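import Groth.Agent.GrpSchLib.Descent
import Groth.Agent.GrpSchLib.Action
import Mathlib.CategoryTheory.Limits.Constructions.Over.Connected

/-! Descent of morphisms along covers, in point-wise form, and descent of actions. -/

open CategoryTheory AlgebraicGeometry MonoidalCategory CartesianMonoidalCategory MonObj Limits

namespace Groth.Agent.AlgGrpH24

universe u

open GrpSchLib

variable {S : Scheme.{u}}

/-- A morphism which does not distinguish points with the same image descends along a cover. -/
theorem exists_desc_of_cover {T' T B : Over S} {c : T' ⟶ T} (hc : IsCover c) (ψ : T' ⟶ B)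
    (h : ∀ (W : Over S) (g₁ g₂ : W ⟶ T'), g₁ ≫ c = g₂ ≫ c → g₁ ≫ ψ = g₂ ≫ ψ) :
    ∃ e : T ⟶ B, c ≫ e = ψ := by
  obtain ⟨_, _, _⟩ := hc
  let l := EffectiveEpi.desc c.left ψ.left fun {Z} g₁ g₂ e => by
    have e' : g₂ ≫ T'.hom = g₁ ≫ T'.hom := by
      rw [← Over.w c, ← Category.assoc, ← e, Category.assoc]
    exact congrArg CommaMorphism.left (h (Over.mk (g₁ ≫ T'.hom)) (Over.homMk g₁ rfl) (Over.homMk g₂ e')
      (Over.OverMorphism.ext e))
  have hfac : c.left ≫ l = ψ.left := EffectiveEpi.fac _ _ _
  exact ⟨Over.homMk l (by rw [← cancel_epi c.left, reassoc_of% hfac, Over.w ψ, Over.w c]),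
    Over.OverMorphism.ext hfac⟩

theorem isPullback_whiskerRight_left {A B : Over S} (g : A ⟶ B) (P : Over S) :
    IsPullback (fst A P).left (g ▷ P).left g.left (fst B P).left := by
  refine IsPullback.map (Over.forget S) (f := fst A P) (g := g ▷ P) (h := g) (i := fst B P) ?_
  exact IsPullback.of_isLimit' ⟨by simp⟩ (PullbackCone.IsLimit.mk _
    (fun s => lift s.fst (s.snd ≫ snd B P))
    (fun s => by simp)
    (fun s => by
      apply CartesianMonoidalCategory.hom_ext
      · simpa using s.condition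
      · simp)
    (fun s m h1 h2 => by
      apply CartesianMonoidalCategory.hom_ext
      · simpa using h1
      · rw [lift_snd, ← h2]; simp))

theorem isPullback_whiskerLeft_left (P : Over S) {A B : Over S} (g : A ⟶ B) :
    IsPullback (snd P A).left (P ◁ g).left g.left (snd P B).left := by
  refine IsPullback.map (Over.forget S) (f := snd P A) (g := P ◁ g) (h := g) (i := snd P B) ?_
  exact IsPullback.of_isLimit' ⟨by simp⟩ (PullbackCone.IsLimit.mk _
    (fun s => lift (s.snd ≫ fst P B) s.fst)
    (fun s => by simp)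
    (fun s => by
      apply CartesianMonoidalCategory.hom_ext
      · simp
      · simpa using s.condition)
    (fun s m h1 h2 => by
      apply CartesianMonoidalCategory.hom_ext
      · rw [lift_fst, ← h2]; simp
      · simpa using h1))

theorem property_whiskerRight' {A B : Over S} (g : A ⟶ B) (P : Over S)
    (Q : MorphismProperty Scheme.{u}) [Q.IsStableUnderBaseChange] (h : Q g.left) : Q (g ▷ P).left :=
  MorphismProperty.of_isPullback (isPullback_whiskerRight_left g P) h

theorem property_whiskerLeft' (P : Over S) {A B : Over S} (g : A ⟶ B)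
    (Q : MorphismProperty Scheme.{u}) [Q.IsStableUnderBaseChange] (h : Q g.left) : Q (P ◁ g).left :=
  MorphismProperty.of_isPullback (isPullback_whiskerLeft_left P g) h

theorem IsCover.whiskerRight {T' T : Over S} {c : T' ⟶ T} (hc : IsCover c) (P : Over S) :
    IsCover (c ▷ P) :=
  ⟨property_whiskerRight' c P @Flat hc.1, property_whiskerRight' c P @Surjective hc.2.1,
    property_whiskerRight' c P @QuasiCompact hc.2.2⟩

theorem IsCover.whiskerLeft {T' T : Over S} {c : T' ⟶ T} (hc : IsCover c) (P : Over S) :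
    IsCover (P ◁ c) :=
  ⟨property_whiskerLeft' P c @Flat hc.1, property_whiskerLeft' P c @Surjective hc.2.1,
    property_whiskerLeft' P c @QuasiCompact hc.2.2⟩

/-- Points with the same image under a homomorphism differ by a point of the kernel. -/
theorem exists_kernel_pt {N G Q T : Over S} [GrpObj G] [GrpObj Q] {n : N ⟶ G} {π : G ⟶ Q} [IsMonHom π]
    (hker : AlgGrp.IsKernel n π) {g₁ g₂ : T ⟶ G} (h : g₁ ≫ π = g₂ ≫ π) :
    ∃ m : T ⟶ N, m ≫ n = g₁⁻¹ * g₂ := by
  refine ⟨hker.lift (g₁⁻¹ * g₂) (toUnit T) ?_, hker.lift_fst _ _ _⟩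
  rw [MonObj.mul_comp, GrpObj.inv_comp, h, inv_mul_cancel]
  rfl

/-- An action trivial on the kernel of a faithfully flat homomorphism descends uniquely. -/
theorem existsUnique_descend_action {N G Q X : Over S} [GrpObj G] [GrpObj Q] {n : N ⟶ G} (π : G ⟶ Q)
    [IsMonHom π] (hπ : IsCover π) (hker : AlgGrp.IsKernel n π) (a : AlgGrp.Action G X)
    (htriv : ∀ (W : Over S) (m : W ⟶ N) (x : W ⟶ X), lift (m ≫ n) x ≫ a.act = x) :
    ∃! b : AlgGrp.Action Q X, (π ▷ X) ≫ b.act = a.act := by
  have hc : IsCover (π ▷ X) := IsCover.whiskerRight hπ X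
  obtain ⟨e, he⟩ := exists_desc_of_cover hc a.act fun W g₁ g₂ h => by
    have h1 : (g₁ ≫ fst G X) ≫ π = (g₂ ≫ fst G X) ≫ π := by
      simpa using congrArg (· ≫ fst Q X) h
    have h2 : g₁ ≫ snd G X = g₂ ≫ snd G X := by
      simpa using congrArg (· ≫ snd Q X) h
    obtain ⟨m, hm⟩ := exists_kernel_pt hker h1
    rw [show g₁ = lift (g₁ ≫ fst G X) (g₁ ≫ snd G X) by simp,
      show g₂ = lift (g₂ ≫ fst G X) (g₂ ≫ snd G X) by simp, ← h2,
      ← mul_inv_cancel_left (g₁ ≫ fst G X) (g₂ ≫ fst G X), ← act_mul, ← hm, htriv]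
  have h2c : IsCover ((π ⊗ₘ π) ▷ X) := by
    rw [tensorHom_def]
    exact IsCover.whiskerRight (IsCover.comp (IsCover.whiskerRight hπ G) (IsCover.whiskerLeft hπ Q)) X
  let b : AlgGrp.Action Q X :=
    { act := e
      one_act := by
        rw [← IsMonHom.one_hom (f := π), comp_whiskerRight, Category.assoc, he, a.one_act]
      mul_act := by
        have := h2c.epi
        rw [← cancel_epi ((π ⊗ₘ π) ▷ X), ← comp_whiskerRight_assoc, ← IsMonHom.mul_hom,
          comp_whiskerRight_assoc, he, a.mul_act]
        have key : ((α_ G G X).hom ≫ (G ◁ a.act)) ≫ (π ▷ X) =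
            ((π ⊗ₘ π) ▷ X) ≫ (α_ Q Q X).hom ≫ (Q ◁ e) := by
          rw [← he]
          apply CartesianMonoidalCategory.hom_ext
          · simp
          · simp only [Category.assoc, whiskerRight_snd, whiskerLeft_snd]
            simp only [← Category.assoc]
            congr 1
            apply CartesianMonoidalCategory.hom_ext <;> simp
        calc (α_ G G X).hom ≫ (G ◁ a.act) ≫ a.act
            = (((α_ G G X).hom ≫ (G ◁ a.act)) ≫ (π ▷ X)) ≫ e := by simp [he]
          _ = _ := by rw [key]; simp }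
  exact ⟨b, he, fun b' hb' => by
    obtain ⟨act, _, _⟩ := b'
    have := hc.epi
    obtain rfl : act = e := (cancel_epi (π ▷ X)).1 (hb'.trans he.symm)
    rfl⟩

end Groth.Agent.AlgGrpH24
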