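import Groth.Agent.H23.MaxAbelian
import Groth.Agent.H23.RigidGamma
import Groth.Agent.GrpSchLib.AntiAffineHom

/-! A smooth connected group scheme over a field is geometrically integral. -/

set_option linter.style.haveILetI false

open CategoryTheory AlgebraicGeometry MonoidalCategory CartesianMonoidalCategory MonObj Limits
open Groth.Agent.GrpSchLib

namespace Groth.Agent.AlgGrpH24

universe u

variable {k : Type u} [Field k]

theorem geometricallyIntegral_grp (G : Over (Spec (CommRingCat.of k))) [GrpObj G] [Smooth G.hom]
    [ConnectedSpace G.left] : GeometricallyIntegral G.hom := by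
  haveI : GeometricallyReduced G.hom := H23.RigidGamma.geometricallyReduced_of_smooth G.hom
  haveI : IsSeparated G.hom := GrpSchLib.AntiAffine.isSeparated_grp G
  obtain ⟨g, hg, hge⟩ := exists_isMaxPt (η[G].left (IsLocalRing.closedPoint k))
  have hu : closure ({g} : Set G.left) = Set.univ := by
    rw [← connectedComponent_one hg hge]; exact PreconnectedSpace.connectedComponent_eq_univ _
  have : IsClosedImmersion (𝟙 G : G ⟶ G).left := by rw [Over.id_left]; infer_instance
  have : GeometricallyIrreducible G.hom := geometricallyIrreducible_one hg hge (𝟙 G)
    (hu ▸ Set.range_eq_univ.2 fun x => ⟨x, rfl⟩)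
  exact GeometricallyIntegral.of_geometricallyReduced_of_geometricallyIrreducible _

end Groth.Agent.AlgGrpH24
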