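import Groth.Agent.AlgGrpH24.Cover
import Groth.Agent.NeronBasic.Basic
import Groth.Agent.H23.AMonExt
import Groth.Agent.AssLib.FlatField
import Groth.Agent.S1585
import Groth.Prelude.Def_Curv2

/-! Actions and the normalization of a variety: comparison on a schematically dense open. -/

set_option linter.style.haveILetI false

open CategoryTheory AlgebraicGeometry MonoidalCategory CartesianMonoidalCategory MonObj Limits

namespace Groth.Agent.AlgGrpH24

universe u

open GrpSchLib

variable {k : Type u} [Field k]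

theorem stDominant_whiskerLeft {A B : Over (Spec (CommRingCat.of k))} (i : A ⟶ B)
    [IsSchemeTheoreticallyDominant i.left] [QuasiCompact i.left] (T : Over (Spec (CommRingCat.of k))) :
    IsSchemeTheoreticallyDominant (T ◁ i).left := by
  haveI : Flat T.hom := AssLib.flat_over_field T.hom
  haveI : Flat (snd T B).left := inferInstanceAs (Flat (Limits.pullback.snd T.hom B.hom))
  exact IsSchemeTheoreticallyDominant.of_isPullback (f := i.left) (g := (snd T B).left)
    (isPullback_whiskerLeft_left T i)

theorem isPullback_whiskerLeft_over (P : Over (Spec (CommRingCat.of k))) {A B : Over (Spec (CommRingCat.of k))}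
    (g : A ⟶ B) : IsPullback (snd P A) (P ◁ g) g (snd P B) :=
  IsPullback.of_map (Over.forget _) (by simp) (isPullback_whiskerLeft_left P g)

/-- A birational comparison: a finite dominant morphism of integral schemes over `k`, which is an open
immersion on a nonempty open of the source saturated for it. -/
structure BiratData {Y X : Over (Spec (CommRingCat.of k))} (ν : Y ⟶ X) where
  U : Over (Spec (CommRingCat.of k))
  j : U ⟶ Y
  open_j : IsOpenImmersion j.left
  qc_j : QuasiCompact j.left
  open_jν : IsOpenImmersion (j ≫ ν).left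
  qc_jν : QuasiCompact (j ≫ ν).left
  dom_j : IsSchemeTheoreticallyDominant j.left
  dom_jν : IsSchemeTheoreticallyDominant (j ≫ ν).left
  sat : ν.left ⁻¹' Set.range (j ≫ ν).left = Set.range j.left

theorem nonempty_biratData {Y X : Over (Spec (CommRingCat.of k))} [LocallyOfFiniteType X.hom] [LocallyOfFiniteType Y.hom]
    [IsIntegral X.left] [IsIntegral Y.left]
    (ν : Y ⟶ X) [IsDominant ν.left] (V : X.left.Opens) (hV : (V : Set X.left).Nonempty) [IsIso (ν.left ∣_ V)] :
    Nonempty (BiratData ν) := by
  haveI : IsLocallyNoetherian X.left := LocallyOfFiniteType.isLocallyNoetherian X.hom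
  haveI : IsLocallyNoetherian Y.left := LocallyOfFiniteType.isLocallyNoetherian Y.hom
  let U : Over (Spec (CommRingCat.of k)) := Over.mk ((ν.left ⁻¹ᵁ V).ι ≫ Y.hom)
  let j : U ⟶ Y := Over.homMk (ν.left ⁻¹ᵁ V).ι rfl
  have e : (j ≫ ν).left = (ν.left ∣_ V) ≫ V.ι := (morphismRestrict_ι ν.left V).symm
  haveI hjν : IsOpenImmersion (j ≫ ν).left := by rw [e]; infer_instance
  haveI hj : IsOpenImmersion j.left := inferInstanceAs (IsOpenImmersion (ν.left ⁻¹ᵁ V).ι)
  haveI : QuasiCompact (j ≫ ν).left := inferInstance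
  haveI : QuasiCompact j.left := inferInstance
  have hr : Set.range (j ≫ ν).left = (V : Set X.left) := by
    rw [e, Scheme.Hom.comp_base, TopCat.coe_comp, Set.range_comp, (ν.left ∣_ V).surjective.range_eq,
      Set.image_univ, Scheme.Opens.range_ι]
  have hne : ((ν.left ⁻¹ᵁ V : Y.left.Opens) : Set Y.left).Nonempty := by
    obtain ⟨_, hx, y, rfl⟩ := ν.left.denseRange.inter_open_nonempty V V.isOpen hV
    exact ⟨y, hx⟩
  haveI : IsDominant j.left := by
    rw [isDominant_iff, DenseRange]
    show Dense (Set.range (ν.left ⁻¹ᵁ V).ι)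
    rw [Scheme.Opens.range_ι]
    exact (ν.left ⁻¹ᵁ V).isOpen.dense hne
  haveI : IsDominant (j ≫ ν).left := by
    rw [isDominant_iff, DenseRange, hr]
    exact V.isOpen.dense hV
  exact ⟨{ U := U, j := j, open_j := hj, qc_j := inferInstance, open_jν := hjν, qc_jν := inferInstance,
           dom_j := IsSchemeTheoreticallyDominant.of_isDominant _,
           dom_jν := IsSchemeTheoreticallyDominant.of_isDominant _,
           sat := by rw [hr]; exact (Scheme.Opens.range_ι (ν.left ⁻¹ᵁ V)).symm }⟩

namespace BiratData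

variable {Y X : Over (Spec (CommRingCat.of k))} {ν : Y ⟶ X} (D : BiratData ν)

theorem eq_of_comp_eq {T : Over (Spec (CommRingCat.of k))} {f g : T ⟶ Y} (h : f ≫ ν = g ≫ ν)
    (hf : ∀ t, (f ≫ ν).left t ∈ Set.range (D.j ≫ ν).left) : f = g := by
  haveI := D.open_j
  haveI := D.open_jν
  have key : ∀ u : T ⟶ Y, u ≫ ν = f ≫ ν → ∃ u' : T.left ⟶ D.U.left, u' ≫ D.j.left = u.left := fun u hu => by
    have : Set.range u.left ⊆ Set.range D.j.left := by
      rintro _ ⟨t, rfl⟩
      rw [← D.sat, Set.mem_preimage]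
      have := hf t
      rw [← hu] at this
      exact this
    exact ⟨IsOpenImmersion.lift D.j.left u.left this, IsOpenImmersion.lift_fac _ _ _⟩
  obtain ⟨f', hf'⟩ := key f rfl
  obtain ⟨g', hg'⟩ := key g h.symm
  have e : f' = g' := by
    rw [← cancel_mono (D.j ≫ ν).left, Over.comp_left, reassoc_of% hf', reassoc_of% hg',
      ← Over.comp_left, ← Over.comp_left, h]
  exact Over.OverMorphism.ext (by rw [← hf', ← hg', e])

variable {G : Over (Spec (CommRingCat.of k))} [GrpObj G] (a : AlgGrp.Action G X) (b : AlgGrp.Action G Y)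

include D in
theorem kernel_iff [IsSeparated Y.hom] [IsSeparated X.hom] (hb : (G ◁ ν) ≫ a.act = b.act ≫ ν)
    (T : Over (Spec (CommRingCat.of k))) (g : T ⟶ G) :
    (∀ (T' : Over (Spec (CommRingCat.of k))) (s : T' ⟶ T) (x : T' ⟶ X), lift (s ≫ g) x ≫ a.act = x) ↔
      (∀ (T' : Over (Spec (CommRingCat.of k))) (s : T' ⟶ T) (y : T' ⟶ Y), lift (s ≫ g) y ≫ b.act = y) := by
  have hcompat : ∀ {T' : Over (Spec (CommRingCat.of k))} (s : T' ⟶ G) (y : T' ⟶ Y),
      lift s y ≫ b.act ≫ ν = lift s (y ≫ ν) ≫ a.act := fun s y => by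
    rw [← hb, ← Category.assoc, lift_whiskerLeft]
  constructor
  · intro h T' s y
    have e : lift (fst T Y ≫ g) (snd T Y) ≫ b.act = snd T Y := by
      haveI := D.dom_j
      haveI := D.qc_j
      haveI := stDominant_whiskerLeft D.j T
      have eU : (T ◁ D.j) ≫ lift (fst T Y ≫ g) (snd T Y) ≫ b.act = (T ◁ D.j) ≫ snd T Y := by
        refine D.eq_of_comp_eq ?_ fun t => ?_
        · simp only [comp_lift_assoc, whiskerLeft_fst_assoc, whiskerLeft_snd, Category.assoc, hcompat]
          exact h _ _ _
        · simp only [comp_lift_assoc, whiskerLeft_fst_assoc, whiskerLeft_snd, Category.assoc, hcompat, h]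
          exact ⟨(snd T D.U).left t, rfl⟩
      exact Over.OverMorphism.ext (NeronBasic.eq_of_stDominant Y.hom ((Over.w _).trans (Over.w _).symm)
        (T ◁ D.j).left (congrArg CommaMorphism.left eU))
    have := congrArg (lift s y ≫ ·) e
    simpa [comp_lift_assoc] using this
  · intro h T' s x
    have e : lift (fst T X ≫ g) (snd T X) ≫ a.act = snd T X := by
      haveI := D.dom_jν
      haveI := D.qc_jν
      haveI := stDominant_whiskerLeft (D.j ≫ ν) T
      have eU : (T ◁ (D.j ≫ ν)) ≫ lift (fst T X ≫ g) (snd T X) ≫ a.act = (T ◁ (D.j ≫ ν)) ≫ snd T X := by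
        simp only [comp_lift_assoc, whiskerLeft_fst_assoc, whiskerLeft_snd]
        rw [← Category.assoc (snd T D.U) D.j ν, ← hcompat, ← Category.assoc, h]
      exact Over.OverMorphism.ext (NeronBasic.eq_of_stDominant X.hom ((Over.w _).trans (Over.w _).symm)
        (T ◁ (D.j ≫ ν)).left (congrArg CommaMorphism.left eU))
    have := congrArg (lift s x ≫ ·) e
    simpa [comp_lift_assoc] using this

theorem range_whiskerRight {A B : Over (Spec (CommRingCat.of k))} (f : A ⟶ B) (P : Over (Spec (CommRingCat.of k))) :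
    Set.range (f ▷ P).left = (fst B P).left ⁻¹' Set.range f.left := by
  have h := isPullback_whiskerRight_left f P
  rw [← h.isoPullback_hom_snd, Scheme.Hom.comp_base, TopCat.coe_comp, Set.range_comp,
    h.isoPullback.hom.surjective.range_eq, Set.image_univ, Scheme.Pullback.range_snd]

theorem range_whiskerLeft (P : Over (Spec (CommRingCat.of k))) {A B : Over (Spec (CommRingCat.of k))} (f : A ⟶ B) :
    Set.range (P ◁ f).left = (snd P B).left ⁻¹' Set.range f.left := by
  have h := isPullback_whiskerLeft_left P f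
  rw [← h.isoPullback_hom_snd, Scheme.Hom.comp_base, TopCat.coe_comp, Set.range_comp,
    h.isoPullback.hom.surjective.range_eq, Set.image_univ, Scheme.Pullback.range_snd]

include D in
theorem isDominant_graph_iff [Surjective ν.left] (hb : (G ◁ ν) ≫ a.act = b.act ≫ ν) :
    IsDominant (lift (snd G X) a.act).left ↔ IsDominant (lift (snd G Y) b.act).left := by
  have hsq : (G ◁ ν) ≫ lift (snd G X) a.act = lift (snd G Y) b.act ≫ (ν ⊗ₘ ν) := by
    rw [comp_lift, whiskerLeft_snd, hb, lift_map]
  haveI hν1 : Surjective (G ◁ ν).left := property_whiskerLeft' G ν @Surjective inferInstance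
  haveI : Surjective (ν ⊗ₘ ν).left := by
    haveI := property_whiskerRight' ν Y @Surjective inferInstance
    haveI := property_whiskerLeft' X ν @Surjective inferInstance
    rw [MonoidalCategory.tensorHom_def, Over.comp_left]
    infer_instance
  have hsqL : (G ◁ ν).left ≫ (lift (snd G X) a.act).left = (lift (snd G Y) b.act).left ≫ (ν ⊗ₘ ν).left :=
    congrArg CommaMorphism.left hsq
  constructor
  · intro ha
    haveI hd : IsDominant ((lift (snd G Y) b.act).left ≫ (ν ⊗ₘ ν).left) := by rw [← hsqL]; infer_instance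
    haveI := D.open_j
    haveI := D.open_jν
    haveI := D.qc_j
    haveI := D.dom_j
    haveI o1 : IsOpenImmersion (D.j ⊗ₘ D.j).left := by
      haveI := property_whiskerRight' D.j D.U @IsOpenImmersion inferInstance
      haveI := property_whiskerLeft' Y D.j @IsOpenImmersion inferInstance
      rw [MonoidalCategory.tensorHom_def, Over.comp_left]
      infer_instance
    haveI o2 : IsOpenImmersion ((D.j ⊗ₘ D.j) ≫ (ν ⊗ₘ ν)).left := by
      haveI := property_whiskerRight' (D.j ≫ ν) D.U @IsOpenImmersion inferInstance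
      haveI := property_whiskerLeft' X (D.j ≫ ν) @IsOpenImmersion inferInstance
      rw [tensorHom_comp_tensorHom, MonoidalCategory.tensorHom_def, Over.comp_left]
      infer_instance
    haveI dj : IsDominant (D.j ⊗ₘ D.j).left := by
      haveI := stDominant_whiskerLeft D.j Y
      haveI : IsSchemeTheoreticallyDominant (D.j ▷ D.U).left :=
        H23.AMonExt.stDominant_whiskerRight_field D.j D.U
      haveI : QuasiCompact (D.j ▷ D.U).left := property_whiskerRight' D.j D.U @QuasiCompact inferInstance
      haveI : QuasiCompact (Y ◁ D.j).left := property_whiskerLeft' Y D.j @QuasiCompact inferInstance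
      rw [MonoidalCategory.tensorHom_def, Over.comp_left]
      infer_instance
    refine ⟨dense_iff_inter_open.2 fun W hW hWne => ?_⟩
    obtain ⟨_, hwW, w, rfl⟩ := dj.denseRange.inter_open_nonempty W hW hWne
    obtain ⟨_, ⟨z, hz, hzeq⟩, s, rfl⟩ := hd.denseRange.inter_open_nonempty _
      (((D.j ⊗ₘ D.j) ≫ (ν ⊗ₘ ν)).left.isOpenEmbedding.isOpenMap _ (hW.preimage (D.j ⊗ₘ D.j).left.continuous))
      ⟨_, w, hwW, rfl⟩
    refine ⟨(lift (snd G Y) b.act).left s, ?_, s, rfl⟩
    set p := (lift (snd G Y) b.act).left s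
    have hp : (ν ⊗ₘ ν).left p = ((D.j ⊗ₘ D.j) ≫ (ν ⊗ₘ ν)).left z := hzeq.symm
    have hmem : ∀ (π : Y ⊗ Y ⟶ Y) (π' : X ⊗ X ⟶ X) (π'' : D.U ⊗ D.U ⟶ D.U),
        (ν ⊗ₘ ν) ≫ π' = π ≫ ν → (D.j ⊗ₘ D.j) ≫ π = π'' ≫ D.j → π.left p ∈ Set.range D.j.left := by
      intro π π' π'' h1 h2
      rw [← D.sat, Set.mem_preimage]
      refine ⟨π''.left z, ?_⟩
      have h3 : (π'' ≫ D.j ≫ ν).left z = (π ≫ ν).left p := by
        rw [← reassoc_of% h2, ← h1]
        exact (congrArg π'.left hp).symm
      exact h3
    have hpU : p ∈ Set.range (D.j ⊗ₘ D.j).left := by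
      have hfst : p ∈ Set.range (D.j ▷ Y).left := by
        rw [range_whiskerRight]
        exact hmem _ (fst X X) (fst D.U D.U) (tensorHom_fst _ _) (tensorHom_fst _ _)
      obtain ⟨q, hq⟩ := hfst
      have hsnd : q ∈ Set.range (D.U ◁ D.j).left := by
        rw [range_whiskerLeft, Set.mem_preimage]
        have h4 : (snd Y Y).left p ∈ Set.range D.j.left := hmem _ (snd X X) (snd D.U D.U) (tensorHom_snd _ _) (tensorHom_snd _ _)
        rwa [← hq, show (snd Y Y).left ((D.j ▷ Y).left q) = ((D.j ▷ Y) ≫ snd Y Y).left q from rfl,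
          whiskerRight_snd] at h4
      obtain ⟨r, rfl⟩ := hsnd
      refine ⟨r, ?_⟩
      rw [← hq, MonoidalCategory.tensorHom_def']
      rfl
    obtain ⟨p', hp'⟩ := hpU
    have : p' = z := ((D.j ⊗ₘ D.j) ≫ (ν ⊗ₘ ν)).left.isOpenEmbedding.injective
      ((congrArg (ν ⊗ₘ ν).left hp').trans hp)
    rw [← hp', this]
    exact hz
  · intro hbd
    haveI : IsDominant ((G ◁ ν).left ≫ (lift (snd G X) a.act).left) := by rw [hsqL]; infer_instance
    exact IsDominant.of_comp (G ◁ ν).left _

end BiratData

/-- The normalization of a variety, with an action, as birational comparison data. -/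
theorem normalization_facts (X : Over (Spec (CommRingCat.of k))) [IsSeparated X.hom] [LocallyOfFiniteType X.hom]
    [IsIntegral X.left] [QuasiCompact (X.left.fromSpecStalk (genericPoint ↥X.left))]
    [QuasiSeparated (X.left.fromSpecStalk (genericPoint ↥X.left))] :
    IsSeparated (Over.mk (Curv2.normalizationι X.left ≫ X.hom)).hom ∧
    Surjective (Curv2.normalizationι X.left) ∧
      Nonempty (BiratData (Over.homMk (Curv2.normalizationι X.left) rfl :
        Over.mk (Curv2.normalizationι X.left ≫ X.hom) ⟶ X)) := by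
  letI : X.left.Over (Spec (CommRingCat.of k)) := ⟨X.hom⟩
  haveI : LocallyOfFiniteType (X.left ↘ Spec (CommRingCat.of k)) := ‹LocallyOfFiniteType X.hom›
  obtain ⟨hfin, hdom, ⟨V, hV, hiso⟩, hint, -⟩ := S1585.result k X.left
  have hsurj : Surjective (Curv2.normalizationι X.left) := by
    refine ⟨Set.range_eq_univ.mp ?_⟩
    rw [← (Curv2.normalizationι X.left).isClosedMap.isClosed_range.closure_eq]
    exact hdom.denseRange.closure_range
  let Y : Over (Spec (CommRingCat.of k)) := Over.mk (Curv2.normalizationι X.left ≫ X.hom)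
  haveI : LocallyOfFiniteType Y.hom := inferInstanceAs (LocallyOfFiniteType (Curv2.normalizationι X.left ≫ X.hom))
  haveI : IsIntegral Y.left := hint
  haveI : IsSeparated Y.hom := inferInstanceAs (IsSeparated (Curv2.normalizationι X.left ≫ X.hom))
  let ν : Y ⟶ X := Over.homMk (Curv2.normalizationι X.left) rfl
  haveI : IsDominant ν.left := hdom
  haveI : IsIso (ν.left ∣_ V) := hiso
  exact ⟨inferInstance, hsurj, nonempty_biratData ν V hV⟩

end Groth.Agent.AlgGrpH24
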