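import Groth.Agent.Chev24.Pts
import Groth.Agent.H23.RatProductK
import Groth.Agent.AlgGrpH24.GeomRedPts
import Groth.Agent.AlgGrpH24.Cover

/-! Morphisms from a product of varieties to an abelian variety, with no smoothness hypothesis. -/

set_option linter.style.haveILetI false

open CategoryTheory AlgebraicGeometry MonoidalCategory CartesianMonoidalCategory MonObj Limits IsLocalRing

namespace Groth.Agent.AlgGrpH24.ProductLemma

universe u

variable {K : Type u} [Field K] [IsAlgClosed K]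

/-- A variety over an algebraically closed field has a nonempty smooth open subscheme with a rational point. -/
theorem exists_smooth_open_pt (X : Over (Spec (CommRingCat.of K))) [LocallyOfFiniteType X.hom] [IsIntegral X.left] :
    ∃ U : X.left.Opens, Smooth (Chev24.op U).hom ∧ IsIntegral (Chev24.op U).left ∧
      Nonempty (𝟙_ (Over (Spec (CommRingCat.of K))) ⟶ Chev24.op U) := by
  haveI : GeometricallyIntegral X.hom := H23.EquidimFibres.geometricallyIntegral_of_isAlgClosed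
  obtain ⟨U, -, hne, hs⟩ := exists_smooth_open_le X.hom ⊤ ⟨genericPoint X.left, trivial⟩
  haveI : Smooth (Chev24.op U).hom := hs
  haveI : Nonempty (Chev24.op U).left := hne.to_subtype
  haveI : IsIntegral (Chev24.op U).left := by
    haveI : Nonempty (U : Scheme.{u}) := hne.to_subtype
    exact isIntegral_of_isOpenImmersion U.ι
  exact ⟨U, hs, inferInstance, H23.RatProductK.exists_point _⟩

/-- A morphism from a product to an abelian variety is a product of morphisms of the factors. -/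
theorem exists_eq_mul {X Y A : Over (Spec (CommRingCat.of K))} [LocallyOfFiniteType X.hom] [IsSeparated X.hom]
    [IsIntegral X.left] [LocallyOfFiniteType Y.hom] [IsSeparated Y.hom] [IsIntegral Y.left]
    [GrpObj A] [IsProper A.hom] [GeometricallyIntegral A.hom] (f : X ⊗ Y ⟶ A) :
    ∃ (φ : X ⟶ A) (ψ : Y ⟶ A), f = (fst X Y ≫ φ) * (snd X Y ≫ ψ) := by
  haveI := isCommMonObj_of_isProper_of_geometricallyIntegral A
  obtain ⟨U, hUs, hUi, ⟨u⟩⟩ := exists_smooth_open_pt X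
  obtain ⟨V, hVs, hVi, ⟨v⟩⟩ := exists_smooth_open_pt Y
  haveI := hUs; haveI := hUi; haveI := hVs; haveI := hVi
  let x₁ := u ≫ Chev24.opι U
  let y₁ := v ≫ Chev24.opι V
  let sX : X ⟶ X ⊗ Y := lift (𝟙 X) (toUnit X ≫ y₁)
  let sY : Y ⟶ X ⊗ Y := lift (toUnit Y ≫ x₁) (𝟙 Y)
  let g : X ⊗ Y ⟶ A := f * (snd X Y ≫ sY ≫ f)⁻¹ * (fst X Y ≫ sX ≫ f)⁻¹ * (toUnit _ ≫ lift x₁ y₁ ≫ f)
  haveI : IsSeparated (Chev24.op U).hom := inferInstanceAs (IsSeparated (U.ι ≫ X.hom))
  haveI : IsSeparated (Chev24.op V).hom := inferInstanceAs (IsSeparated (V.ι ≫ Y.hom))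
  haveI : GeometricallyIntegral (Chev24.op U).hom := H23.EquidimFibres.geometricallyIntegral_of_isAlgClosed
  haveI : GeometricallyIntegral (Chev24.op V).hom := H23.EquidimFibres.geometricallyIntegral_of_isAlgClosed
  let ιι : Chev24.op U ⊗ Chev24.op V ⟶ X ⊗ Y := Chev24.opι U ⊗ₘ Chev24.opι V
  have h1 : ιι ≫ g = toUnit _ ≫ η[A] := by
    refine H23.RatProductK.eq_const u v η[A] (ιι ≫ g) ?_ ?_
    · have e : lift (𝟙 (Chev24.op U)) (toUnit _ ≫ v) ≫ ιι = Chev24.opι U ≫ sX := by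
        ext <;> simp [ιι, sX, y₁]
      rw [reassoc_of% e, ← Hom.one_def]
      simp only [g, MonObj.comp_mul, GrpObj.comp_inv]
      have e1 : sX ≫ fst X Y ≫ sX ≫ f = sX ≫ f := by rw [lift_fst_assoc, Category.id_comp]
      have e2 : sX ≫ snd X Y ≫ sY ≫ f = toUnit X ≫ lift x₁ y₁ ≫ f := by
        rw [lift_snd_assoc, ← Category.assoc _ (lift x₁ y₁)]
        simp only [sY, ← Category.assoc]
        congr 1
        ext <;> simp
      have e3 : sX ≫ toUnit (X ⊗ Y) ≫ lift x₁ y₁ ≫ f = toUnit X ≫ lift x₁ y₁ ≫ f := by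
        rw [← Category.assoc, toUnit_unique (sX ≫ toUnit _) (toUnit X)]
      rw [e1, e2, e3]
      rw [_root_.mul_assoc _ _ (Chev24.opι U ≫ sX ≫ f)⁻¹,
        mul_comm (Chev24.opι U ≫ toUnit X ≫ lift x₁ y₁ ≫ f)⁻¹ (Chev24.opι U ≫ sX ≫ f)⁻¹,
        ← _root_.mul_assoc, mul_inv_cancel, _root_.one_mul, inv_mul_cancel]
    · have e : lift (toUnit _ ≫ u) (𝟙 (Chev24.op V)) ≫ ιι = Chev24.opι V ≫ sY := by
        ext <;> simp [ιι, sY, x₁]
      rw [reassoc_of% e, ← Hom.one_def]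
      simp only [g, MonObj.comp_mul, GrpObj.comp_inv]
      have e1 : sY ≫ snd X Y ≫ sY ≫ f = sY ≫ f := by rw [lift_snd_assoc, Category.id_comp]
      have e2 : sY ≫ fst X Y ≫ sX ≫ f = toUnit Y ≫ lift x₁ y₁ ≫ f := by
        rw [lift_fst_assoc, ← Category.assoc _ (lift x₁ y₁)]
        simp only [sX, ← Category.assoc]
        congr 1
        ext <;> simp
      have e3 : sY ≫ toUnit (X ⊗ Y) ≫ lift x₁ y₁ ≫ f = toUnit Y ≫ lift x₁ y₁ ≫ f := by
        rw [← Category.assoc, toUnit_unique (sY ≫ toUnit _) (toUnit Y)]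
      rw [e1, e2, e3, mul_inv_cancel, _root_.one_mul, inv_mul_cancel]
  haveI := Chev24.isIntegral_tensor X Y
  have hι : IsOpenImmersion ιι.left := by
    show IsOpenImmersion (Chev24.opι U ⊗ₘ Chev24.opι V).left
    rw [MonoidalCategory.tensorHom_def, Over.comp_left]
    haveI : IsOpenImmersion (Chev24.opι U ▷ Chev24.op V).left :=
      AlgGrpH24.property_whiskerRight' _ _ @IsOpenImmersion (inferInstanceAs (IsOpenImmersion U.ι))
    haveI : IsOpenImmersion (X ◁ Chev24.opι V).left :=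
      AlgGrpH24.property_whiskerLeft' _ _ @IsOpenImmersion (inferInstanceAs (IsOpenImmersion V.ι))
    infer_instance
  haveI := hι
  haveI : IsDominant ιι.left := ⟨ιι.left.isOpenEmbedding.isOpen_range.dense
    (Set.range_nonempty_iff_nonempty.mpr ⟨(lift u v).left (closedPoint K)⟩)⟩
  haveI : IsReduced (X ⊗ Y).left := inferInstance
  have h2 : g = 1 := by
    apply Over.OverMorphism.ext
    refine ext_of_isDominant_of_isSeparated A.hom ((Over.w g).trans (Over.w (1 : X ⊗ Y ⟶ A)).symm) ιι.left ?_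
    rw [← Over.comp_left, h1, ← Hom.one_def, ← MonObj.comp_one ιι, Over.comp_left]
  refine ⟨(sX ≫ f) * (toUnit X ≫ lift x₁ y₁ ≫ f)⁻¹, sY ≫ f, ?_⟩
  rw [MonObj.comp_mul, GrpObj.comp_inv, ← Category.assoc (fst X Y) (toUnit X), comp_toUnit]
  simp only [g] at h2
  revert h2
  generalize fst X Y ≫ sX ≫ f = a
  generalize snd X Y ≫ sY ≫ f = b
  generalize toUnit (X ⊗ Y) ≫ lift x₁ y₁ ≫ f = c
  intro h2
  rw [mul_eq_one_iff_eq_inv, mul_inv_eq_iff_eq_mul, mul_inv_eq_iff_eq_mul] at h2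
  rw [h2, mul_comm a]

variable {k : Type u} [Field k]

/-- The product formula over any field. -/
theorem eq_formula {X Y A : Over (Spec (CommRingCat.of k))}
    [LocallyOfFiniteType X.hom] [IsSeparated X.hom] [GeometricallyIntegral X.hom]
    [LocallyOfFiniteType Y.hom] [IsSeparated Y.hom] [GeometricallyIntegral Y.hom]
    [GrpObj A] [IsProper A.hom] [GeometricallyIntegral A.hom]
    (x₀ : 𝟙_ (Over (Spec (CommRingCat.of k))) ⟶ X) (y₀ : 𝟙_ (Over (Spec (CommRingCat.of k))) ⟶ Y) (f : X ⊗ Y ⟶ A) :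
    f = (toUnit (X ⊗ Y) ≫ lift x₀ y₀ ≫ f)⁻¹ * (snd X Y ≫ lift (toUnit Y ≫ x₀) (𝟙 Y) ≫ f) *
      (fst X Y ≫ lift (𝟙 X) (toUnit X ≫ y₀) ≫ f) := by
  let F := H23.RatProductK.bc k
  haveI : LocallyOfFiniteType (F.obj X).hom := inferInstanceAs (LocallyOfFiniteType (pullback.snd X.hom _))
  haveI : IsSeparated (F.obj X).hom := inferInstanceAs (IsSeparated (pullback.snd X.hom _))
  haveI : GeometricallyIntegral (F.obj X).hom := inferInstanceAs (GeometricallyIntegral (pullback.snd X.hom _))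
  haveI : LocallyOfFiniteType (F.obj Y).hom := inferInstanceAs (LocallyOfFiniteType (pullback.snd Y.hom _))
  haveI : IsSeparated (F.obj Y).hom := inferInstanceAs (IsSeparated (pullback.snd Y.hom _))
  haveI : GeometricallyIntegral (F.obj Y).hom := inferInstanceAs (GeometricallyIntegral (pullback.snd Y.hom _))
  haveI : IsProper (F.obj A).hom := inferInstanceAs (IsProper (pullback.snd A.hom _))
  haveI : GeometricallyIntegral (F.obj A).hom := inferInstanceAs (GeometricallyIntegral (pullback.snd A.hom _))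
  haveI : IsIntegral (F.obj X).left := H23.MaxAbelian.isIntegral_of_geometricallyIntegral
  haveI : IsIntegral (F.obj Y).left := H23.MaxAbelian.isIntegral_of_geometricallyIntegral
  letI : GrpObj (F.obj A) := Functor.grpObjObj
  haveI := isCommMonObj_of_isProper_of_geometricallyIntegral (F.obj A)
  let m := Functor.Monoidal.μIso F X Y
  obtain ⟨φ, ψ, hφψ⟩ := exists_eq_mul (m.hom ≫ F.map f)
  apply F.map_injective
  rw [← cancel_epi m.hom]
  let xb : ∀ Z : Over (Spec (CommRingCat.of k)), F.obj Z ⟶ F.obj X := fun Z => F.map (toUnit Z ≫ x₀)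
  let yb : ∀ Z : Over (Spec (CommRingCat.of k)), F.obj Z ⟶ F.obj Y := fun Z => F.map (toUnit Z ≫ y₀)
  have hsec : ∀ {Z : Over (Spec (CommRingCat.of k))} (a : Z ⟶ X) (b : Z ⟶ Y),
      F.map (lift a b ≫ f) = (F.map a ≫ φ) * (F.map b ≫ ψ) := fun a b => by
    have e : F.map (lift a b) = lift (F.map a) (F.map b) ≫ m.hom := (Functor.Monoidal.lift_μ F a b).symm
    rw [Functor.map_comp, e, Category.assoc, hφψ, MonObj.comp_mul, lift_fst_assoc, lift_snd_assoc]
  have hfst : ∀ {Z : Over (Spec (CommRingCat.of k))} (a : X ⟶ Z), m.hom ≫ F.map (fst X Y ≫ a) =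
      fst (F.obj X) (F.obj Y) ≫ F.map a := fun a => by
    rw [Functor.map_comp, Functor.Monoidal.μIso_hom, Functor.Monoidal.μ_fst_assoc]
  have hsnd : ∀ {Z : Over (Spec (CommRingCat.of k))} (a : Y ⟶ Z), m.hom ≫ F.map (snd X Y ≫ a) =
      snd (F.obj X) (F.obj Y) ≫ F.map a := fun a => by
    rw [Functor.map_comp, Functor.Monoidal.μIso_hom, Functor.Monoidal.μ_snd_assoc]
  have t1 : m.hom ≫ F.map (toUnit (X ⊗ Y) ≫ lift x₀ y₀ ≫ f) =
      (fst (F.obj X) (F.obj Y) ≫ xb X ≫ φ) * (snd (F.obj X) (F.obj Y) ≫ yb Y ≫ ψ) := by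
    rw [← Category.assoc (toUnit (X ⊗ Y)), comp_lift, hsec, MonObj.comp_mul,
      show toUnit (X ⊗ Y) ≫ x₀ = fst X Y ≫ toUnit X ≫ x₀ by rw [← Category.assoc, comp_toUnit],
      show toUnit (X ⊗ Y) ≫ y₀ = snd X Y ≫ toUnit Y ≫ y₀ by rw [← Category.assoc, comp_toUnit],
      ← Category.assoc m.hom, ← Category.assoc m.hom, hfst, hsnd, Category.assoc, Category.assoc]
  have t2 : m.hom ≫ F.map (snd X Y ≫ lift (toUnit Y ≫ x₀) (𝟙 Y) ≫ f) =
      (fst (F.obj X) (F.obj Y) ≫ xb X ≫ φ) * (snd (F.obj X) (F.obj Y) ≫ ψ) := by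
    rw [hsnd, hsec, MonObj.comp_mul, CategoryTheory.Functor.map_id, Category.id_comp,
      ← Category.assoc (snd _ _), ← hsnd,
      show snd X Y ≫ toUnit Y ≫ x₀ = fst X Y ≫ toUnit X ≫ x₀ by
        rw [← Category.assoc, ← Category.assoc, comp_toUnit, comp_toUnit], hfst, Category.assoc]
  have t3 : m.hom ≫ F.map (fst X Y ≫ lift (𝟙 X) (toUnit X ≫ y₀) ≫ f) =
      (fst (F.obj X) (F.obj Y) ≫ φ) * (snd (F.obj X) (F.obj Y) ≫ yb Y ≫ ψ) := by
    rw [hfst, hsec, MonObj.comp_mul, CategoryTheory.Functor.map_id, Category.id_comp,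
      ← Category.assoc (fst _ _) (F.map _), ← hfst,
      show fst X Y ≫ toUnit X ≫ y₀ = snd X Y ≫ toUnit Y ≫ y₀ by
        rw [← Category.assoc, ← Category.assoc, comp_toUnit, comp_toUnit], hsnd, Category.assoc]
  show m.hom ≫ F.map f = m.hom ≫ F.homMonoidHom (_⁻¹ * _ * _)
  rw [map_mul, map_mul, map_inv]
  show _ = m.hom ≫ ((F.map _)⁻¹ * F.map _ * F.map _)
  rw [MonObj.comp_mul, MonObj.comp_mul, GrpObj.comp_inv, t1, t2, t3, hφψ]
  generalize fst (F.obj X) (F.obj Y) ≫ φ = a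
  generalize snd (F.obj X) (F.obj Y) ≫ ψ = b
  generalize fst (F.obj X) (F.obj Y) ≫ xb X ≫ φ = c
  generalize snd (F.obj X) (F.obj Y) ≫ yb Y ≫ ψ = d
  rw [mul_inv_rev, mul_comm d⁻¹ c⁻¹, mul_comm a d, ← _root_.mul_assoc (c⁻¹ * d⁻¹ * (c * b)) d a]
  rw [show c⁻¹ * d⁻¹ * (c * b) * d = b by
    rw [mul_comm c⁻¹ d⁻¹, _root_.mul_assoc d⁻¹, inv_mul_cancel_left, mul_comm d⁻¹ b, inv_mul_cancel_right]]
  exact mul_comm a b

end Groth.Agent.AlgGrpH24.ProductLemma
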