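import Groth.Agent.SGAQuot20.Field
import Groth.Agent.SrcDescent.SchemeFppf
import Groth.Agent.AlgGrpH24.Cover
import Groth.Agent.GrpSchLib.QuotAffine

/-! The quotient of a group of finite type over a field by a normal subgroup, as a group. -/

set_option linter.style.haveILetI false

open CategoryTheory AlgebraicGeometry MonoidalCategory CartesianMonoidalCategory MonObj Limits

namespace Groth.Agent.AlgGrpH24

universe u

open GrpSchLib

variable {k : Type u} [Field k]

theorem isCover_tensorHom {S : Scheme.{u}} {A B A' B' : Over S} {f : A ⟶ B} {g : A' ⟶ B'} (hf : IsCover f)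
    (hg : IsCover g) : IsCover (f ⊗ₘ g) := by
  rw [MonoidalCategory.tensorHom_def]
  exact IsCover.comp (IsCover.whiskerRight hf A') (IsCover.whiskerLeft hg B)

/-- The quotient by a normal closed subgroup exists and is a group. -/
theorem exists_quotient_grp {N G : Over (Spec (CommRingCat.of k))} [GrpObj N] [GrpObj G]
    [LocallyOfFiniteType G.hom] [QuasiCompact G.hom] (i : N ⟶ G) [IsMonHom i] [IsClosedImmersion i.left]
    (hN : AlgGrp.IsNormalHom i) :
    ∃ (Q : Over (Spec (CommRingCat.of k))) (_ : GrpObj Q) (q : G ⟶ Q),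
      IsMonHom q ∧ Surjective q.left ∧ Flat q.left ∧ LocallyOfFinitePresentation q.left ∧
      LocallyOfFiniteType Q.hom ∧ QuasiCompact Q.hom ∧ IsSeparated Q.hom ∧ AlgGrp.IsKernel i q := by
  haveI : IsSeparated G.hom := AntiAffine.isSeparated_grp G
  haveI : LocallyOfFiniteType N.hom := by rw [← Over.w i]; infer_instance
  haveI : IsSeparated N.hom := by rw [← Over.w i]; infer_instance
  haveI : Mono i := Over.mono_of_mono_left _
  obtain ⟨Y, p, hs, hfl, hlfp, sq⟩ := SGAQuot20.exists_quotient i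
  haveI := hs; haveI := hfl; haveI := hlfp
  let act : N ⊗ G ⟶ G := (SGAQuot20.leftAct i).act
  have sq' : IsPullback act.left (snd N G).left p p := sq
  let y : Y ⟶ Spec (CommRingCat.of k) := EffectiveEpi.desc p G.hom fun {Z} g₁ g₂ e => by
    rw [← sq'.lift_fst g₁ g₂ e, Category.assoc, Over.w act]
    conv_rhs => rw [← sq'.lift_snd g₁ g₂ e, Category.assoc, Over.w (snd N G)]
  have hy : p ≫ y = G.hom := EffectiveEpi.fac _ _ _
  let Q : Over (Spec (CommRingCat.of k)) := Over.mk y
  let q : G ⟶ Q := Over.homMk p hy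
  haveI : Surjective q.left := hs
  haveI : Flat q.left := hfl
  haveI : LocallyOfFiniteType Q.hom := by
    haveI : LocallyOfFiniteType (p ≫ y) := by rw [hy]; infer_instance
    exact SrcDescent.locallyOfFiniteType_of_fppf_comp p y
  haveI : QuasiCompact Q.hom := by
    haveI : CompactSpace G.left := QuasiCompact.compactSpace_of_compactSpace G.hom
    haveI : CompactSpace Q.left := p.surjective.compactSpace p.continuous
    exact (quasiCompact_iff_compactSpace Q.hom).mpr ‹_›
  haveI : IsLocallyNoetherian G.left := LocallyOfFiniteType.isLocallyNoetherian G.hom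
  haveI : IsLocallyNoetherian Q.left := LocallyOfFiniteType.isLocallyNoetherian Q.hom
  haveI : CompactSpace G.left := QuasiCompact.compactSpace_of_compactSpace G.hom
  haveI : IsNoetherian G.left := {}
  have hq : IsCover q := ⟨hfl, hs, inferInstance⟩
  have hrel : ∀ {W : Over (Spec (CommRingCat.of k))} {g₁ g₂ : W ⟶ G}, g₁ ≫ q = g₂ ≫ q →
      ∃ n : W ⟶ N, (n ≫ i) * g₂ = g₁ := by
    intro W g₁ g₂ h
    have e : g₁.left ≫ p = g₂.left ≫ p := congrArg CommaMorphism.left h
    let l : W ⟶ N ⊗ G := Over.homMk (sq'.lift g₁.left g₂.left e) (by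
      rw [← Over.w (snd N G), ← Category.assoc, sq'.lift_snd, Over.w g₂])
    refine ⟨l ≫ fst N G, ?_⟩
    have h1 : l ≫ act = g₁ := Over.OverMorphism.ext (sq'.lift_fst _ _ _)
    have h2 : l ≫ snd N G = g₂ := Over.OverMorphism.ext (sq'.lift_snd _ _ _)
    rw [← h1, ← h2, SGAQuot20.act_apply, Category.assoc]
  have hrel' : ∀ {W : Over (Spec (CommRingCat.of k))} (n : W ⟶ N) (g : W ⟶ G), ((n ≫ i) * g) ≫ q = g ≫ q := by
    intro W n g
    have e : act ≫ q = snd N G ≫ q := Over.OverMorphism.ext sq'.w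
    have := congrArg (lift n g ≫ ·) e
    simp only [← Category.assoc, lift_snd] at this
    rwa [SGAQuot20.act_apply, lift_fst_assoc, lift_snd] at this
  obtain ⟨m, hm⟩ := exists_desc_of_cover (isCover_tensorHom hq hq) (μ[G] ≫ q) fun W g₁ g₂ h => by
    have h1 : (g₁ ≫ fst G G) ≫ q = (g₂ ≫ fst G G) ≫ q := by simpa using congrArg (· ≫ fst Q Q) h
    have h2 : (g₁ ≫ snd G G) ≫ q = (g₂ ≫ snd G G) ≫ q := by simpa using congrArg (· ≫ snd Q Q) h
    obtain ⟨a, ha⟩ := hrel h1
    obtain ⟨b, hb⟩ := hrel h2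
    obtain ⟨b', hb'⟩ := hN W (g₂ ≫ fst G G) b
    have key : ∀ g : W ⟶ G ⊗ G, g ≫ μ[G] = (g ≫ fst G G) * (g ≫ snd G G) := fun g => by
      rw [Hom.mul_def, ← comp_lift, lift_fst_snd, Category.comp_id]
    rw [← Category.assoc, ← Category.assoc, key, key, ← ha, ← hb,
      show (a ≫ i) * (g₂ ≫ fst G G) * ((b ≫ i) * (g₂ ≫ snd G G)) =
        (a ≫ i) * ((g₂ ≫ fst G G) * (b ≫ i) * (g₂ ≫ fst G G)⁻¹) * ((g₂ ≫ fst G G) * (g₂ ≫ snd G G)) by group,
      hb', ← MonObj.mul_comp, hrel']
  obtain ⟨v, hv⟩ := exists_desc_of_cover hq (ι[G] ≫ q) fun W g₁ g₂ h => by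
    obtain ⟨a, ha⟩ := hrel h
    obtain ⟨a', ha'⟩ := hN W g₂⁻¹ a⁻¹
    rw [GrpObj.inv_comp, inv_inv] at ha'
    rw [← Category.assoc, ← Category.assoc, show g₁ ≫ ι[G] = g₁⁻¹ from rfl, show g₂ ≫ ι[G] = g₂⁻¹ from rfl,
      ← ha, mul_inv_rev,
      show g₂⁻¹ * (a ≫ i)⁻¹ = (g₂⁻¹ * (a ≫ i)⁻¹ * g₂) * g₂⁻¹ by group, ha', hrel']
  have hq2 := (isCover_tensorHom hq hq).epi
  have hq3 := (isCover_tensorHom (isCover_tensorHom hq hq) hq).epi
  have hq1 := hq.epi
  letI gQ : GrpObj Q :=
    { one := η[G] ≫ q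
      mul := m
      inv := v
      one_mul := by
        have := (IsCover.whiskerLeft hq (𝟙_ (Over (Spec (CommRingCat.of k))))).epi
        rw [← cancel_epi (𝟙_ _ ◁ q), ← Category.assoc,
          show 𝟙_ _ ◁ q ≫ (η[G] ≫ q) ▷ Q = (η[G] ▷ G) ≫ (q ⊗ₘ q) by
            apply CartesianMonoidalCategory.hom_ext <;>
              simp [toUnit_unique (toUnit (𝟙_ _ ⊗ G)) (fst _ _), CartesianMonoidalCategory.leftUnitor_hom G],
          Category.assoc, hm, MonObj.one_mul_assoc]
        simp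
      mul_one := by
        have := (IsCover.whiskerRight hq (𝟙_ (Over (Spec (CommRingCat.of k))))).epi
        rw [← cancel_epi (q ▷ 𝟙_ _), ← Category.assoc,
          show q ▷ 𝟙_ _ ≫ Q ◁ (η[G] ≫ q) = (G ◁ η[G]) ≫ (q ⊗ₘ q) by
            apply CartesianMonoidalCategory.hom_ext <;>
              simp [toUnit_unique (toUnit (G ⊗ 𝟙_ _)) (snd _ _), CartesianMonoidalCategory.rightUnitor_hom G],
          Category.assoc, hm, MonObj.mul_one_assoc]
        simp
      mul_assoc := by
        rw [← cancel_epi ((q ⊗ₘ q) ⊗ₘ q)]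
        have l : ((q ⊗ₘ q) ⊗ₘ q) ≫ m ▷ Q = (μ[G] ▷ G) ≫ (q ⊗ₘ q) := by
          rw [← tensorHom_id, tensorHom_comp_tensorHom, hm, ← tensorHom_id, tensorHom_comp_tensorHom]
          simp
        have r : ((q ⊗ₘ q) ⊗ₘ q) ≫ (α_ Q Q Q).hom ≫ Q ◁ m = (α_ G G G).hom ≫ (G ◁ μ[G]) ≫ (q ⊗ₘ q) := by
          rw [associator_naturality_assoc, ← id_tensorHom, tensorHom_comp_tensorHom, hm, ← id_tensorHom,
            tensorHom_comp_tensorHom]
          simp
        rw [← Category.assoc, l, reassoc_of% r, Category.assoc, hm, MonObj.mul_assoc_assoc]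
      left_inv := by
        rw [← cancel_epi q, ← Category.assoc, comp_lift, hv, Category.comp_id,
          show lift (ι[G] ≫ q) q = lift ι[G] (𝟙 G) ≫ (q ⊗ₘ q) by simp,
          Category.assoc, hm, GrpObj.left_inv_assoc, ← Category.assoc q, comp_toUnit]
      right_inv := by
        rw [← cancel_epi q, ← Category.assoc, comp_lift, hv, Category.comp_id,
          show lift q (ι[G] ≫ q) = lift (𝟙 G) ι[G] ≫ (q ⊗ₘ q) by simp,
          Category.assoc, hm, GrpObj.right_inv_assoc, ← Category.assoc q, comp_toUnit] }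
  haveI : IsMonHom q := { one_hom := rfl, mul_hom := hm.symm }
  refine ⟨Q, gQ, q, inferInstance, hs, hfl, hlfp, inferInstance, inferInstance,
    AntiAffine.isSeparated_grp Q, ?_⟩
  have hone : ∀ {W : Over (Spec (CommRingCat.of k))}, toUnit W ≫ η[Q] = (1 : W ⟶ G) ≫ q := by
    intro W
    rw [MonObj.one_comp]
    rfl
  have hw : i ≫ q = toUnit N ≫ η[Q] := by
    rw [hone]
    simpa using hrel' (𝟙 N) (1 : N ⟶ G)
  exact IsPullback.of_isLimit' ⟨hw⟩ (PullbackCone.IsLimit.mk _
    (fun s => (hrel (show s.fst ≫ q = 1 ≫ q by rw [s.condition, ← hone, toUnit_unique s.snd])).choose)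
    (fun s => by
      have := (hrel (show s.fst ≫ q = 1 ≫ q by rw [s.condition, ← hone, toUnit_unique s.snd])).choose_spec
      simpa using this)
    (fun s => toUnit_unique _ _)
    (fun s m h1 _ => by
      rw [← cancel_mono i, h1]
      have := (hrel (show s.fst ≫ q = 1 ≫ q by rw [s.condition, ← hone, toUnit_unique s.snd])).choose_spec
      simpa using this.symm))

end Groth.Agent.AlgGrpH24
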