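import Groth.Agent.AlgGrpH24.TorsorMap
import Groth.Agent.AlgGrpH24.QuotGrp
import Groth.Agent.AlgGrpH24.GrpInt
import Groth.Agent.FBaseLib.Basic
import Groth.Agent.S7996
import Groth.Agent.S11994

/-! An abelian subvariety of a smooth connected group is central and admits a quasi-retraction. -/

set_option linter.style.haveILetI false

open CategoryTheory AlgebraicGeometry MonoidalCategory CartesianMonoidalCategory MonObj Limits

namespace Groth.Agent.AlgGrpH24

universe u

variable {k : Type u} [Field k]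

/-- An abelian variety mapping to a connected group is central. -/
theorem central_of_proper {G A : Over (Spec (CommRingCat.of k))} [GrpObj G] [GrpObj A]
    [LocallyOfFiniteType G.hom] [QuasiCompact G.hom] [ConnectedSpace G.left]
    [IsProper A.hom] [GeometricallyIntegral A.hom] (i : A ⟶ G) [IsMonHom i]
    {T : Over (Spec (CommRingCat.of k))} (a : T ⟶ A) (g : T ⟶ G) : (a ≫ i) * g = g * (a ≫ i) := by
  have hO := (GrpSchLib.AntiAffine.bijective_appTop_iff A.hom).2 (H23.Rigid.bijective_appTop A.hom)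
  simpa using Groth.Agent.S7996.result k A G hO i T a T (𝟙 T) g

/-- A homomorphism to an abelian subvariety which is a positive power on it. -/
theorem exists_quasiRetraction {G A : Over (Spec (CommRingCat.of k))} [GrpObj G] [GrpObj A]
    [Smooth G.hom] [QuasiCompact G.hom] [ConnectedSpace G.left]
    (i : A ⟶ G) [IsMonHom i] [IsClosedImmersion i.left] [Smooth A.hom] [ConnectedSpace A.left] [IsProper A.hom] :
    ∃ (φ : G ⟶ A) (n : ℕ), 0 < n ∧ IsMonHom φ ∧ i ≫ φ = 𝟙 A ^ n ∧
      ∀ (T : Over (Spec (CommRingCat.of k))) (g : T ⟶ G) (a : T ⟶ A), (g * (a ≫ i)) ≫ φ = (g ≫ φ) * a ^ n := by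
  haveI := geometricallyIntegral_grp G
  haveI := geometricallyIntegral_grp A
  haveI := isCommMonObj_of_isProper_of_geometricallyIntegral A
  haveI : IsSeparated G.hom := GrpSchLib.AntiAffine.isSeparated_grp G
  have hc : ∀ {T : Over (Spec (CommRingCat.of k))} (a : T ⟶ A) (g : T ⟶ G), (a ≫ i) * g = g * (a ≫ i) :=
    fun a g => central_of_proper i a g
  obtain ⟨Q, _, q, hqm, hqs, hqf, hqp, hQl, hQc, hQs, hker⟩ := exists_quotient_grp i fun T g n =>
    ⟨n, by rw [← hc, mul_inv_cancel_right]⟩
  haveI := hqm; haveI := hqs; haveI := hqf; haveI := hQl; haveI := hQc; haveI := hQs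
  haveI : Mono i := Over.mono_of_mono_left _
  let act : AlgGrp.Action A G := SGAQuot20.leftAct i
  have hact : ∀ {T : Over (Spec (CommRingCat.of k))} (a : T ⟶ A) (g : T ⟶ G), lift a g ≫ act.act = (a ≫ i) * g :=
    fun a g => by rw [SGAQuot20.act_apply, lift_fst_assoc, lift_snd]
  have hiq : ∀ {T : Over (Spec (CommRingCat.of k))} (a : T ⟶ A), (a ≫ i) ≫ q = 1 := fun a => by
    rw [Category.assoc, hker.w, ← Category.assoc, comp_toUnit]; rfl
  have hinv : act.act ≫ q = snd A G ≫ q := by
    have := hact (fst A G) (snd A G)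
    rw [lift_fst_snd, Category.id_comp] at this
    rw [this, MonObj.mul_comp, hiq, _root_.one_mul]
  have hdiv : ∀ {T : Over (Spec (CommRingCat.of k))} (x₁ x₂ : T ⟶ G), x₁ ≫ q = x₂ ≫ q →
      ∃! b : T ⟶ A, lift b x₂ ≫ act.act = x₁ := fun x₁ x₂ h => by
    obtain ⟨m, hm⟩ := exists_kernel_pt hker h.symm
    refine ⟨m, by show lift m x₂ ≫ act.act = x₁; rw [hact, hc, hm, mul_inv_cancel_left], fun b hb => ?_⟩
    replace hb : lift b x₂ ≫ act.act = x₁ := hb
    rw [hact, hc] at hb
    rw [← cancel_mono i, hm, ← hb, inv_mul_cancel_left]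
  have hpb : IsPullback act.act (snd A G) q q := by
    refine IsPullback.of_isLimit' ⟨hinv⟩ (PullbackCone.IsLimit.mk _
      (fun s => lift (hdiv s.fst s.snd s.condition).choose s.snd)
      (fun s => (hdiv s.fst s.snd s.condition).choose_spec.1) (fun s => lift_snd _ _) fun s m h1 h2 => ?_)
    apply CartesianMonoidalCategory.hom_ext
    · rw [lift_fst]
      refine (hdiv s.fst s.snd s.condition).choose_spec.2 _ ?_
      show lift _ _ ≫ act.act = s.fst
      rw [← h2, ← comp_lift_assoc, lift_fst_snd, Category.id_comp, h1]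
    · rw [lift_snd, h2]
  haveI : QuasiCompact q.left := by
    haveI : QuasiCompact (q.left ≫ Q.hom) := by rw [Over.w]; infer_instance
    exact QuasiCompact.of_comp q.left Q.hom
  haveI : Smooth q.left :=
    MorphismProperty.of_isPullback_of_descendsAlong (P := @Smooth) (Q := @Surjective ⊓ @Flat ⊓ @QuasiCompact)
      (hpb.map (Over.forget _)).flip ⟨⟨hqs, hqf⟩, ‹QuasiCompact q.left›⟩
      (inferInstanceAs (Smooth (Limits.pullback.snd A.hom G.hom)))
  haveI : IsIntegral G.left := H23.MaxAbelian.isIntegral_of_geometricallyIntegral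
  haveI : IsIntegral Q.left := by
    haveI : IsReduced Q.left := FBaseLib.isReduced_of_flat_surjective q.left
    haveI : IrreducibleSpace Q.left :=
      { isPreirreducible_univ := by
          rw [← q.left.surjective.range_eq, ← Set.image_univ]
          exact PreirreducibleSpace.isPreirreducible_univ.image q.left q.left.continuous.continuousOn
        toNonempty := ⟨q.left (Classical.arbitrary _)⟩ }
    exact isIntegral_of_irreducibleSpace_of_isReduced _
  obtain ⟨φ₀, n, hn, hφ₀⟩ := exists_map_torsor act q hinv hdiv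
  let φ : G ⟶ A := φ₀ * (toUnit G ≫ η[G] ≫ φ₀)⁻¹
  have hone : η[G] ≫ φ = η[A] := by
    simp only [φ, MonObj.comp_mul, GrpObj.comp_inv]
    rw [← Category.assoc, toUnit_unique (η[G] ≫ toUnit G) (𝟙 _), Category.id_comp, _root_.mul_inv_cancel]
    exact (congrArg (· ≫ η[A]) (toUnit_unique (toUnit _) (𝟙 _))).trans (Category.id_comp _)
  haveI : IsMonHom φ := Groth.Agent.S11994.result k G A φ hone
  have hφ : ∀ (T : Over (Spec (CommRingCat.of k))) (g : T ⟶ G) (a : T ⟶ A),
      (g * (a ≫ i)) ≫ φ = (g ≫ φ) * a ^ n := fun T g a => by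
    have := hφ₀ T a g
    rw [← Category.assoc, hact, hc] at this
    simp only [φ, MonObj.comp_mul, GrpObj.comp_inv]
    rw [this, ← Category.assoc (g * (a ≫ i)), comp_toUnit, ← Category.assoc g, comp_toUnit,
      mul_right_comm]
  refine ⟨φ, n, hn, inferInstance, ?_, hφ⟩
  simpa [MonObj.one_comp] using hφ A 1 (𝟙 A)

end Groth.Agent.AlgGrpH24
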