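import Groth.Agent.AlgGrpH24.ProductLemma
import Groth.Agent.AlgGrpH24.GrpInt
import Groth.Agent.S16117
import Groth.Agent.AlgGrp25.TorusProper
import Groth.Agent.GrpSchLib.Cartier
import Groth.Agent.S8197
import Groth.Agent.S7982
import Groth.Agent.GrpSchLib.MultTypeBC

/-! Morphisms from a product of varieties to a torus or a semi-abelian variety. -/

set_option linter.style.haveILetI false

open CategoryTheory AlgebraicGeometry MonoidalCategory CartesianMonoidalCategory MonObj Limits IsLocalRing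
open Groth.Agent.GrpSchLib

namespace Groth.Agent.AlgGrpH24.SemiabProduct

universe u

variable {L : Type u} [Field L]

/-- The global function given by a character. -/
noncomputable def chr {M : Type} [AddCommGroup M] (m : M) :
    Γ((AffineHopf.sp L (MonoidAlgebra L (Multiplicative M))).left, ⊤) :=
  (Scheme.ΓSpecIso (CommRingCat.of (MonoidAlgebra L (Multiplicative M)))).inv
    (MonoidAlgebra.single (Multiplicative.ofAdd m) 1)

theorem isUnit_chr {M : Type} [AddCommGroup M] (m : M) : IsUnit (chr (L := L) m) := by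
  refine IsUnit.map _ (IsUnit.of_mul_eq_one (MonoidAlgebra.single (Multiplicative.ofAdd (-m)) 1) ?_)
  rw [MonoidAlgebra.single_mul_single, ← ofAdd_add, add_neg_cancel, _root_.one_mul, ofAdd_zero,
    MonoidAlgebra.one_def]

/-- Morphisms into a split torus are determined by the pullbacks of characters. -/
theorem hom_ext_chr {M : Type} [AddCommGroup M] {Z : Over (Spec (CommRingCat.of L))}
    (u v : Z ⟶ AffineHopf.sp L (MonoidAlgebra L (Multiplicative M)))
    (h : ∀ m, u.left.appTop (chr m) = v.left.appTop (chr m)) : u = v := by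
  haveI : IsAffine (AffineHopf.sp L (MonoidAlgebra L (Multiplicative M))).left :=
    inferInstanceAs (IsAffine (Spec (CommRingCat.of (MonoidAlgebra L (Multiplicative M)))))
  apply Over.OverMorphism.ext
  apply ext_of_isAffine
  refine (cancel_epi (Scheme.ΓSpecIso (CommRingCat.of (MonoidAlgebra L (Multiplicative M)))).inv).1 ?_
  apply CommRingCat.hom_ext
  refine MonoidAlgebra.ringHom_ext (fun a => ?_) fun m => h (Multiplicative.toAdd m)
  have hw : ∀ w : Z ⟶ AffineHopf.sp L (MonoidAlgebra L (Multiplicative M)),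
      w.left.appTop ((Scheme.ΓSpecIso (CommRingCat.of (MonoidAlgebra L (Multiplicative M)))).inv
        (MonoidAlgebra.single 1 a)) = Z.hom.appTop ((Scheme.ΓSpecIso (CommRingCat.of L)).inv a) := fun w => by
    conv_rhs => rw [← Over.w w]
    have e := Scheme.ΓSpecIso_inv_naturality (CommRingCat.ofHom (algebraMap L (MonoidAlgebra L (Multiplicative M))))
    have e' := congrArg (fun f : CommRingCat.of L ⟶ _ => f a) e
    change _ = w.left.appTop ((Spec.map (CommRingCat.ofHom (algebraMap L _))).appTop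
      ((Scheme.ΓSpecIso (CommRingCat.of L)).inv a))
    refine congrArg w.left.appTop (Eq.trans ?_ e')
    rfl
  exact (hw u).trans (hw v).symm

theorem app_comp {A B C : Over (Spec (CommRingCat.of L))} (p : A ⟶ B) (q : B ⟶ C) (c : Γ(C.left, ⊤)) :
    (p ≫ q).left.appTop c = p.left.appTop (q.left.appTop c) := by
  rw [Over.comp_left, Scheme.Hom.comp_appTop]
  rfl

/-- A morphism from a product of varieties to a split torus which is trivial on the axes is trivial. -/
theorem eq_one_split [IsAlgClosed L] {M : Type} [AddCommGroup M] {X Y : Over (Spec (CommRingCat.of L))}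
    [LocallyOfFiniteType X.hom] [QuasiCompact X.hom] [IsSeparated X.hom] [IsIntegral X.left]
    [LocallyOfFiniteType Y.hom] [QuasiCompact Y.hom] [IsSeparated Y.hom] [IsIntegral Y.left]
    (x : 𝟙_ (Over (Spec (CommRingCat.of L))) ⟶ X) (y : 𝟙_ (Over (Spec (CommRingCat.of L))) ⟶ Y)
    (u : X ⊗ Y ⟶ AffineHopf.sp L (MonoidAlgebra L (Multiplicative M)))
    (hx : lift (𝟙 X) (toUnit X ≫ y) ≫ u = 1) (hy : lift (toUnit Y ≫ x) (𝟙 Y) ≫ u = 1) : u = 1 := by
  refine hom_ext_chr u 1 fun m => ?_
  let T := AffineHopf.sp L (MonoidAlgebra L (Multiplicative M))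
  obtain ⟨g, h, -, hh, hgh⟩ := Groth.Agent.S16117.result L X Y (u.left.appTop (chr m))
    ((isUnit_chr m).map u.left.appTop.hom)
  let e : Γ(Spec (CommRingCat.of L), ⊤) := η[T].left.appTop (chr m)
  have hone : ∀ Z : Over (Spec (CommRingCat.of L)), (1 : Z ⟶ T).left.appTop (chr m) = Z.hom.appTop e := fun Z => by
    rw [Hom.one_def, Over.comp_left, Over.toUnit_left]
    rfl
  -- constants
  let cx : Γ(Spec (CommRingCat.of L), ⊤) := x.left.appTop g
  let cy : Γ(Spec (CommRingCat.of L), ⊤) := y.left.appTop h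
  have hcy : ∀ Z : Over (Spec (CommRingCat.of L)), (toUnit Z ≫ y).left.appTop h = Z.hom.appTop cy := fun Z => by
    rw [Over.comp_left, Over.toUnit_left]
    rfl
  have hcx : ∀ Z : Over (Spec (CommRingCat.of L)), (toUnit Z ≫ x).left.appTop g = Z.hom.appTop cx := fun Z => by
    rw [Over.comp_left, Over.toUnit_left]
    rfl
  have ax : g * X.hom.appTop cy = X.hom.appTop e := by
    rw [← hone X, ← hx, app_comp, hgh, map_mul, ← app_comp, lift_fst, ← app_comp, lift_snd, hcy]
    rfl
  have ay : Y.hom.appTop cx * h = Y.hom.appTop e := by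
    rw [← hone Y, ← hy, app_comp, hgh, map_mul, ← app_comp, lift_fst, ← app_comp, lift_snd, hcx]
    rfl
  have hc : cx * cy = e := by
    have hxX : ∀ c, x.left.appTop (X.hom.appTop c) = c := fun c => by
      rw [← CommRingCat.comp_apply, ← Scheme.Hom.comp_appTop, Over.w x]
      show Scheme.Hom.appTop (𝟙 (Spec (CommRingCat.of L))) c = c
      rw [Scheme.Hom.id_appTop]
      rfl
    have := congrArg x.left.appTop ax
    rwa [map_mul, hxX, hxX] at this
  have hcu : IsUnit cx ∧ IsUnit cy := by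
    have he : IsUnit (cx * cy) := by rw [hc]; exact (isUnit_chr m).map η[T].left.appTop.hom
    exact isUnit_of_mul_isUnit_left he |> fun h1 => ⟨h1, isUnit_of_mul_isUnit_right he⟩
  have hp : ∀ (Z : Over (Spec (CommRingCat.of L))) (W : Over (Spec (CommRingCat.of L))) (p : Z ⟶ W)
      (c : Γ(Spec (CommRingCat.of L), ⊤)), p.left.appTop (W.hom.appTop c) = Z.hom.appTop c := fun Z W p c => by
    rw [← CommRingCat.comp_apply, ← Scheme.Hom.comp_appTop, Over.w p]
  rw [hgh, hone]
  obtain ⟨cxi, hcxi⟩ := hcu.1.exists_left_inv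
  obtain ⟨cyi, hcyi⟩ := hcu.2.exists_left_inv
  have hg : g = X.hom.appTop cx := by
    calc g = g * X.hom.appTop cy * X.hom.appTop cyi := by
          rw [_root_.mul_assoc, ← map_mul, mul_comm cy, hcyi, map_one, _root_.mul_one]
      _ = X.hom.appTop (cx * (cy * cyi)) := by rw [ax, ← hc, ← map_mul, _root_.mul_assoc]
      _ = X.hom.appTop cx := by rw [mul_comm cy, hcyi, _root_.mul_one]
  have hh' : h = Y.hom.appTop cy := by
    calc h = Y.hom.appTop cxi * (Y.hom.appTop cx * h) := by
          rw [← _root_.mul_assoc, ← map_mul, hcxi, map_one, _root_.one_mul]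
      _ = Y.hom.appTop (cxi * cx * cy) := by rw [ay, ← hc, ← map_mul, _root_.mul_assoc]
      _ = Y.hom.appTop cy := by rw [hcxi, _root_.one_mul]
  rw [hg, hh', hp, hp, ← map_mul, hc]

variable {k : Type u} [Field k]

/-- A torus splits over an algebraically closed extension. -/
theorem exists_split_algClosed {T : Over (Spec (CommRingCat.of k))} [GrpObj T] (hT : Red.IsTorus T) :
    ∃ (Ω : Type u) (_ : Field Ω) (_ : IsAlgClosed Ω) (φ : k →+* Ω) (r : ℕ),
      Nonempty (Grp.mk (Red.bc (Spec.map (CommRingCat.ofHom φ)) T) ≅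
        Grp.mk (AffineHopf.sp Ω (MonoidAlgebra Ω (Multiplicative (Fin r → ℤ))))) := by
  obtain ⟨F, _, φ, r, ⟨e⟩⟩ := AlgGrp25.TorusProper.exists_split_field hT
  let t := Spec.map (CommRingCat.ofHom (algebraMap F (AlgebraicClosure F)))
  refine ⟨AlgebraicClosure F, inferInstance, inferInstance, (algebraMap F (AlgebraicClosure F)).comp φ, r, ?_⟩
  obtain ⟨e₁⟩ := MultTypeBC.bc_congr (show Spec.map (CommRingCat.ofHom ((algebraMap F (AlgebraicClosure F)).comp φ)) =
    t ≫ Spec.map (CommRingCat.ofHom φ) by rw [← Spec.map_comp]; rfl) T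
  obtain ⟨e₂⟩ := MultTypeBC.bc_bc t (Spec.map (CommRingCat.ofHom φ)) T
  obtain ⟨d⟩ := GrpSchLib.AffineHopf.nonempty_DS_iso F (Fin r → ℤ)
  obtain ⟨e₃⟩ := MultTypeBC.bc_iso t (e ≪≫ d)
  obtain ⟨e₄⟩ := MultTypeBC.bc_DS t (Fin r → ℤ)
  obtain ⟨e₅⟩ := GrpSchLib.AffineHopf.nonempty_DS_iso (AlgebraicClosure F) (Fin r → ℤ)
  exact ⟨e₁ ≪≫ e₂.symm ≪≫ e₃ ≪≫ e₄ ≪≫ e₅.symm⟩

/-- A morphism from a product of varieties to a torus which is trivial on the axes is trivial. -/
theorem eq_one_torus {X Y T : Over (Spec (CommRingCat.of k))}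
    [LocallyOfFiniteType X.hom] [QuasiCompact X.hom] [IsSeparated X.hom] [GeometricallyIntegral X.hom]
    [LocallyOfFiniteType Y.hom] [QuasiCompact Y.hom] [IsSeparated Y.hom] [GeometricallyIntegral Y.hom]
    [GrpObj T] (hT : Red.IsTorus T)
    (x : 𝟙_ (Over (Spec (CommRingCat.of k))) ⟶ X) (y : 𝟙_ (Over (Spec (CommRingCat.of k))) ⟶ Y)
    (u : X ⊗ Y ⟶ T) (hx : lift (𝟙 X) (toUnit X ≫ y) ≫ u = 1) (hy : lift (toUnit Y ≫ x) (𝟙 Y) ≫ u = 1) : u = 1 := by
  obtain ⟨K, _, _, φ, r, ⟨e⟩⟩ := exists_split_algClosed hT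
  let σ := Spec.map (CommRingCat.ofHom φ)
  let F := Over.pullback σ
  haveI : LocallyOfFiniteType (F.obj X).hom := inferInstanceAs (LocallyOfFiniteType (pullback.snd X.hom σ))
  haveI : QuasiCompact (F.obj X).hom := inferInstanceAs (QuasiCompact (pullback.snd X.hom σ))
  haveI : IsSeparated (F.obj X).hom := inferInstanceAs (IsSeparated (pullback.snd X.hom σ))
  haveI : GeometricallyIntegral (F.obj X).hom := inferInstanceAs (GeometricallyIntegral (pullback.snd X.hom σ))
  haveI : LocallyOfFiniteType (F.obj Y).hom := inferInstanceAs (LocallyOfFiniteType (pullback.snd Y.hom σ))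
  haveI : QuasiCompact (F.obj Y).hom := inferInstanceAs (QuasiCompact (pullback.snd Y.hom σ))
  haveI : IsSeparated (F.obj Y).hom := inferInstanceAs (IsSeparated (pullback.snd Y.hom σ))
  haveI : GeometricallyIntegral (F.obj Y).hom := inferInstanceAs (GeometricallyIntegral (pullback.snd Y.hom σ))
  haveI : IsIntegral (F.obj X).left := H23.MaxAbelian.isIntegral_of_geometricallyIntegral
  haveI : IsIntegral (F.obj Y).left := H23.MaxAbelian.isIntegral_of_geometricallyIntegral
  let w : Red.bc σ T ⟶ AffineHopf.sp K (MonoidAlgebra K (Multiplicative (Fin r → ℤ))) := e.hom.hom.hom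
  haveI : IsMonHom w := e.hom.hom.isMonHom_hom
  haveI : IsIso w := ((Grp.forget _).mapIso e).isIso_hom
  let m := Functor.Monoidal.μIso F X Y
  have h1 : (1 : F.obj X ⟶ Red.bc σ T) = F.map (1 : X ⟶ T) := F.homMonoidHom.map_one.symm
  have h2 : (1 : F.obj Y ⟶ Red.bc σ T) = F.map (1 : Y ⟶ T) := F.homMonoidHom.map_one.symm
  have hz : (m.hom ≫ F.map u) ≫ w = 1 := by
    refine eq_one_split (Functor.LaxMonoidal.ε F ≫ F.map x) (Functor.LaxMonoidal.ε F ≫ F.map y) _ ?_ ?_
    · have e : lift (𝟙 (F.obj X)) (toUnit (F.obj X) ≫ Functor.LaxMonoidal.ε F ≫ F.map y) ≫ m.hom =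
          F.map (lift (𝟙 X) (toUnit X ≫ y)) := by
        rw [← Category.assoc (toUnit _), Functor.Monoidal.toUnit_ε, ← F.map_comp, ← F.map_id]
        exact Functor.Monoidal.lift_μ F _ _
      rw [Category.assoc, reassoc_of% e, ← Category.assoc, ← F.map_comp, hx, ← h1, MonObj.one_comp]
    · have e : lift (toUnit (F.obj Y) ≫ Functor.LaxMonoidal.ε F ≫ F.map x) (𝟙 (F.obj Y)) ≫ m.hom =
          F.map (lift (toUnit Y ≫ x) (𝟙 Y)) := by
        rw [← Category.assoc (toUnit _), Functor.Monoidal.toUnit_ε, ← F.map_comp, ← F.map_id]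
        exact Functor.Monoidal.lift_μ F _ _
      rw [Category.assoc, reassoc_of% e, ← Category.assoc, ← F.map_comp, hy, ← h2, MonObj.one_comp]
  refine AntiAffine.eq_of_map_eq φ ?_
  rw [← cancel_mono w, ← cancel_epi m.hom, ← Category.assoc, hz]
  show 1 = m.hom ≫ F.homMonoidHom (1 : X ⊗ Y ⟶ T) ≫ w
  rw [map_one, MonObj.one_comp, MonObj.comp_one]

/-- A semi-abelian variety is commutative, and the product formula holds. -/
theorem eq_one_semiab {X Y G T A : Over (Spec (CommRingCat.of k))}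
    [LocallyOfFiniteType X.hom] [QuasiCompact X.hom] [IsSeparated X.hom] [GeometricallyIntegral X.hom]
    [LocallyOfFiniteType Y.hom] [QuasiCompact Y.hom] [IsSeparated Y.hom] [GeometricallyIntegral Y.hom]
    [GrpObj G] [GrpObj T] [GrpObj A] [IsProper A.hom] [GeometricallyIntegral A.hom]
    (hT : Red.IsTorus T) (i : T ⟶ G) [IsMonHom i] [Mono i] (q : G ⟶ A) [IsMonHom q] (hk : AlgGrp.IsKernel i q)
    (x : 𝟙_ (Over (Spec (CommRingCat.of k))) ⟶ X) (y : 𝟙_ (Over (Spec (CommRingCat.of k))) ⟶ Y)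
    (u : X ⊗ Y ⟶ G) (hu : u ≫ q = 1) (hx : lift (𝟙 X) (toUnit X ≫ y) ≫ u = 1)
    (hy : lift (toUnit Y ≫ x) (𝟙 Y) ≫ u = 1) : u = 1 := by
  let t := hk.lift u (toUnit _) (hu.trans Hom.one_def)
  have ht : t ≫ i = u := hk.lift_fst _ _ _
  have h := eq_one_torus hT x y t (by rw [← cancel_mono i, Category.assoc, ht, hx, MonObj.one_comp])
    (by rw [← cancel_mono i, Category.assoc, ht, hy, MonObj.one_comp])
  rw [← ht, h, MonObj.one_comp]

theorem smooth_torus {T : Over (Spec (CommRingCat.of k))} [GrpObj T] [LocallyOfFiniteType T.hom]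
    (hT : Red.IsTorus T) : Smooth T.hom := by
  obtain ⟨K, _, _, φ, r, ⟨e⟩⟩ := exists_split_algClosed hT
  let σ := Spec.map (CommRingCat.ofHom φ)
  haveI : LocallyOfFiniteType (Red.bc σ T).hom := inferInstanceAs (LocallyOfFiniteType (pullback.snd T.hom σ))
  let w : Red.bc σ T ⟶ AffineHopf.sp K (MonoidAlgebra K (Multiplicative (Fin r → ℤ))) := e.hom.hom.hom
  haveI : IsIso w := ((Grp.forget _).mapIso e).isIso_hom
  haveI : IsIso w.left := (Over.forget _).map_isIso w
  haveI : IsDomain (MonoidAlgebra K (Multiplicative (Fin r → ℤ))) := by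
    haveI : UniqueSums ℤ := TwoUniqueSums.toUniqueSums ℤ
    exact NoZeroDivisors.to_isDomain _
  haveI : IsReduced (AffineHopf.sp K (MonoidAlgebra K (Multiplicative (Fin r → ℤ)))).left :=
    inferInstanceAs (IsReduced (Spec (CommRingCat.of (MonoidAlgebra K (Multiplicative (Fin r → ℤ))))))
  haveI : IsReduced (Red.bc σ T).left := isReduced_of_isOpenImmersion w.left
  haveI : Smooth (Red.bc σ T).hom := GrpSchLib.smooth_of_isReduced_of_isAlgClosed (Red.bc σ T)
  exact MorphismProperty.of_pullback_snd_of_descendsAlong (P := @Smooth)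
    (Q := @Surjective ⊓ @Flat ⊓ @QuasiCompact) (g := σ)
    ⟨⟨GrpSchLib.surjective_spec_map_field φ, inferInstance⟩, inferInstance⟩
    (inferInstanceAs (Smooth (Red.bc σ T).hom))

end Groth.Agent.AlgGrpH24.SemiabProduct
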