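import Groth.Agent.AlgGrpH24.Cover
import Groth.Agent.GrpSchLib.SepPoints
import Groth.Agent.H23.RigidGamma
import Groth.Agent.S11993

/-! Rosenlicht's map on a torsor under an abelian variety: `φ (a • x) = φ x * a ^ n`. -/

set_option linter.style.haveILetI false

open CategoryTheory AlgebraicGeometry MonoidalCategory CartesianMonoidalCategory MonObj Limits IsLocalRing

namespace Groth.Agent.AlgGrpH24

universe u

open GrpSchLib

/-- A nonempty smooth scheme over a field has a point in a finite Galois extension. -/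
theorem exists_galois_point {κ : Type u} [Field κ] {P : Scheme.{u}} (f : P ⟶ Spec (CommRingCat.of κ))
    [Smooth f] [Nonempty P] :
    ∃ (L : Type u) (_ : Field L) (_ : Algebra κ L) (_ : FiniteDimensional κ L) (_ : IsGalois κ L)
      (s : Spec (CommRingCat.of L) ⟶ P), s ≫ f = Spec.map (CommRingCat.ofHom (algebraMap κ L)) := by
  let K := SeparableClosure κ
  let β := Spec.map (CommRingCat.ofHom (algebraMap κ K))
  haveI : Surjective β := GrpSchLib.surjective_spec_map_field _
  obtain ⟨x⟩ := ‹Nonempty P›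
  obtain ⟨x', -⟩ := (pullback.fst f β).surjective x
  obtain ⟨t, ht, -⟩ := GrpSchLib.exists_point_of_smooth (pullback.snd f β) ⊤ (x := x') trivial
  let q : Spec (CommRingCat.of K) ⟶ P := t ≫ pullback.fst f β
  have hq : q ≫ f = β := by
    rw [Category.assoc, pullback.condition, reassoc_of% ht]
  obtain ⟨U, hU, hqU, -⟩ := exists_isAffineOpen_mem_and_subset (x := q (closedPoint K)) (U := (⊤ : P.Opens)) trivial
  have hr : Set.range q ⊆ Set.range U.ι := by
    rintro _ ⟨z, rfl⟩
    rw [Scheme.Opens.range_ι, Subsingleton.elim (α := Spec (CommRingCat.of K)) z (closedPoint K)]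
    exact hqU
  haveI : IsAffine U.toScheme := hU
  let q' : Spec (CommRingCat.of K) ⟶ Spec Γ(U.toScheme, ⊤) := IsOpenImmersion.lift U.ι q hr ≫ U.toScheme.isoSpec.hom
  let g : Spec Γ(U.toScheme, ⊤) ⟶ Spec (CommRingCat.of κ) := U.toScheme.isoSpec.inv ≫ U.ι ≫ f
  have hg : q' ≫ g = β := by simp [q', g, hq]
  obtain ⟨gm, hgm⟩ : ∃ gm, Spec.map gm = g := ⟨_, Spec.map_preimage g⟩
  obtain ⟨ρ, hρ⟩ : ∃ ρ, Spec.map ρ = q' := ⟨_, Spec.map_preimage q'⟩
  let _ : Algebra κ Γ(U.toScheme, ⊤) := gm.hom.toAlgebra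
  haveI : Algebra.FiniteType κ Γ(U.toScheme, ⊤) := by
    have : LocallyOfFiniteType (Spec.map gm) := by rw [hgm]; infer_instance
    exact (HasRingHomProperty.Spec_iff (P := @LocallyOfFiniteType)).1 this
  have hρgm : gm ≫ ρ = CommRingCat.ofHom (algebraMap κ K) := Spec.map_injective (by
    rw [Spec.map_comp, hρ, hgm, hg])
  let ρ' : Γ(U.toScheme, ⊤) →ₐ[κ] K :=
    { ρ.hom with commutes' := fun c => congrArg (fun m => m.hom c) hρgm }
  obtain ⟨s, hs⟩ := (Algebra.FiniteType.out (R := κ) (A := Γ(U.toScheme, ⊤)))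
  let K' := IntermediateField.adjoin κ (ρ' '' (s : Set Γ(U.toScheme, ⊤)))
  haveI : FiniteDimensional κ K' :=
    haveI : Finite (ρ' '' (s : Set Γ(U.toScheme, ⊤))) := (s.finite_toSet.image _).to_subtype
    IntermediateField.finiteDimensional_adjoin fun x _ => Algebra.IsIntegral.isIntegral x
  let L := IntermediateField.normalClosure κ K' K
  have hKL : K' ≤ L := IntermediateField.le_normalClosure K'
  have hrange : ρ'.range ≤ L.toSubalgebra := by
    rw [← Algebra.map_top, ← hs, AlgHom.map_adjoin, Algebra.adjoin_le_iff]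
    exact fun y hy => hKL (IntermediateField.subset_adjoin _ _ hy)
  let ρL : Γ(U.toScheme, ⊤) →ₐ[κ] L := ρ'.codRestrict L.toSubalgebra fun y => hrange ⟨y, rfl⟩
  refine ⟨L, inferInstance, inferInstance, inferInstance, inferInstance,
    Spec.map (CommRingCat.ofHom ρL.toRingHom) ≫ U.toScheme.isoSpec.inv ≫ U.ι, ?_⟩
  rw [Category.assoc, Category.assoc, show U.toScheme.isoSpec.inv ≫ U.ι ≫ f = Spec.map gm from hgm.symm,
    ← Spec.map_comp]
  exact congrArg Spec.map (CommRingCat.hom_ext (RingHom.ext fun c => ρL.commutes c))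

variable {k : Type u} [Field k]

theorem comp_prod {C : Type*} [Category C] [CartesianMonoidalCategory C] [BraidedCategory C] {A : C} [GrpObj A]
    [IsCommMonObj A] {T T' : C} (g : T' ⟶ T) {J : Type*} (s : Finset J) (a : J → (T ⟶ A)) :
    g ≫ ∏ i ∈ s, a i = ∏ i ∈ s, g ≫ a i :=
  map_prod ({ toFun := fun x => g ≫ x, map_one' := MonObj.comp_one g,
              map_mul' := MonObj.comp_mul g } : (T ⟶ A) →* (T' ⟶ A)) a s

theorem exists_map_torsor {A X Y : Over (Spec (CommRingCat.of k))} [GrpObj A] [IsProper A.hom] [Smooth A.hom]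
    [GeometricallyIntegral A.hom] [Smooth X.hom] [IsSeparated X.hom] [QuasiCompact X.hom]
    [GeometricallyIntegral X.hom] [IsSeparated Y.hom] [IsIntegral Y.left] (a : AlgGrp.Action A X) (f : X ⟶ Y)
    [Smooth f.left] [Surjective f.left] (hinv : a.act ≫ f = snd A X ≫ f)
    (hdiv : ∀ {T : Over (Spec (CommRingCat.of k))} (x₁ x₂ : T ⟶ X), x₁ ≫ f = x₂ ≫ f →
      ∃! b : T ⟶ A, lift b x₂ ≫ a.act = x₁) :
    ∃ (φ : X ⟶ A) (n : ℕ), 0 < n ∧
      ∀ (T : Over (Spec (CommRingCat.of k))) (b : T ⟶ A) (x : T ⟶ X), lift b x ≫ a.act ≫ φ = (x ≫ φ) * b ^ n := by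
  classical
  haveI := isCommMonObj_of_isProper_of_geometricallyIntegral A
  haveI : IsIntegral X.left := H23.MaxAbelian.isIntegral_of_geometricallyIntegral
  haveI : IsIntegral A.left := H23.MaxAbelian.isIntegral_of_geometricallyIntegral
  -- the generic point of `Y`
  let η₀ := genericPoint Y.left
  let κ : Type u := Y.left.functionField
  let ε₀ : Spec (CommRingCat.of κ) ⟶ Y.left := Y.left.fromSpecStalk η₀
  have hε₀ : ∀ z, ε₀ z = η₀ := fun z => by
    rw [Subsingleton.elim z (closedPoint κ)]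
    exact Scheme.fromSpecStalk_closedPoint (X := Y.left) (x := η₀)
  let E : Over (Spec (CommRingCat.of k)) := Over.mk (ε₀ ≫ Y.hom)
  let ε : E ⟶ Y := Over.homMk ε₀ rfl
  haveI : Flat ε.left := H23.RatExtend.flat_fromSpecStalk Y.left η₀
  haveI : IsPreimmersion ε.left := inferInstanceAs (IsPreimmersion (Y.left.fromSpecStalk η₀))
  haveI : Y.left.IsSeparated := ⟨by rw [← terminal.comp_from Y.hom]; exact inferInstance⟩
  haveI : QuasiCompact ε.left := by
    haveI : QuasiCompact (ε.left ≫ Y.hom) := inferInstanceAs (QuasiCompact (ε₀ ≫ Y.hom))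
    exact QuasiCompact.of_comp ε.left Y.hom
  -- the generic fibre
  let Xη : Over (Spec (CommRingCat.of k)) := Over.mk (pullback.fst f.left ε.left ≫ X.hom)
  let jX : Xη ⟶ X := Over.homMk (pullback.fst f.left ε.left) rfl
  let πη : Xη ⟶ E := Over.homMk (pullback.snd f.left ε.left) (by
    show _ ≫ ε.left ≫ Y.hom = _ ≫ X.hom
    rw [← reassoc_of% (pullback.condition (f := f.left) (g := ε.left)), Over.w])
  have hη : jX ≫ f = πη ≫ ε := Over.OverMorphism.ext pullback.condition
  have extη : ∀ {T : Over (Spec (CommRingCat.of k))} {g₁ g₂ : T ⟶ Xη}, g₁ ≫ jX = g₂ ≫ jX →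
      g₁ ≫ πη = g₂ ≫ πη → g₁ = g₂ := fun h₁ h₂ => Over.OverMorphism.ext (pullback.hom_ext
        (congrArg CommaMorphism.left h₁) (congrArg CommaMorphism.left h₂))
  haveI : Nonempty Xη.left := by
    obtain ⟨x, hx⟩ := f.left.surjective (ε.left (closedPoint κ))
    obtain ⟨z, -, -⟩ := Scheme.Pullback.exists_preimage_pullback x _ hx
    exact ⟨z⟩
  haveI : Smooth (pullback.snd f.left ε.left) := inferInstance
  haveI : Smooth (πη.left : Xη.left ⟶ Spec (CommRingCat.of κ)) := inferInstanceAs (Smooth (pullback.snd f.left ε.left))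
  haveI : IsReduced Xη.left :=
    H23.RigidGamma.isReduced_of_smooth (k := κ) (X := Xη.left) πη.left
  obtain ⟨L, _, _, _, _, s, hs⟩ := exists_galois_point (κ := κ) (πη.left : Xη.left ⟶ Spec (CommRingCat.of κ))
  let α : Spec (CommRingCat.of L) ⟶ E.left := Spec.map (CommRingCat.ofHom (algebraMap κ L))
  let F : Over (Spec (CommRingCat.of k)) := Over.mk (α ≫ E.hom)
  let πF : F ⟶ E := Over.homMk α rfl
  let sF : F ⟶ Xη := Over.homMk s (by
    show s ≫ Xη.hom = α ≫ E.hom
    rw [← Over.w πη, ← Category.assoc]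
    exact congrArg (· ≫ E.hom) hs)
  have hsF : sF ≫ πη = πF := Over.OverMorphism.ext hs
  let sg₀ : (L ≃ₐ[κ] L) → (Spec (CommRingCat.of L) ⟶ Spec (CommRingCat.of L)) := fun σ =>
    Spec.map (CommRingCat.ofHom σ.toAlgHom.toRingHom)
  have hsg₀ : ∀ σ, sg₀ σ ≫ α = α := fun σ => by
    refine (Spec.map_comp _ _).symm.trans (congrArg Spec.map ?_)
    exact CommRingCat.hom_ext (RingHom.ext fun c => σ.commutes c)
  let sg : (L ≃ₐ[κ] L) → (F ⟶ F) := fun σ => Over.homMk (sg₀ σ) (by
    show sg₀ σ ≫ α ≫ E.hom = α ≫ E.hom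
    rw [reassoc_of% (hsg₀ σ)])
  have hsg : ∀ σ, sg σ ≫ πF = πF := fun σ => Over.OverMorphism.ext (hsg₀ σ)
  have hsg_mul : ∀ σ τ, sg σ ≫ sg τ = sg (σ * τ) := fun σ τ => Over.OverMorphism.ext
    ((Spec.map_comp _ _).symm.trans rfl)
  let XL : Over (Spec (CommRingCat.of k)) := Over.mk (pullback.fst πη.left α ≫ Xη.hom)
  let p₁ : XL ⟶ Xη := Over.homMk (pullback.fst πη.left α) rfl
  let p₂ : XL ⟶ F := Over.homMk (pullback.snd πη.left α) (by
    show _ ≫ α ≫ E.hom = _ ≫ Xη.hom
    rw [← reassoc_of% (pullback.condition (f := πη.left) (g := α)), Over.w])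
  have hL : p₁ ≫ πη = p₂ ≫ πF := Over.OverMorphism.ext pullback.condition
  haveI : Smooth α := by
    refine (HasRingHomProperty.Spec_iff (P := @Smooth)).2 ?_
    haveI : Algebra.FormallyEtale κ L := Algebra.FormallyEtale.of_isSeparable _ L
    haveI : Algebra.FinitePresentation κ L := Algebra.FinitePresentation.of_finiteType.1 inferInstance
    haveI : Algebra.Etale κ L := ⟨inferInstance, inferInstance⟩
    exact RingHom.smooth_algebraMap.2 inferInstance
  have hp₁ : IsCover p₁ := by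
    haveI : Surjective α := GrpSchLib.surjective_spec_map_field (algebraMap κ L)
    haveI : Flat α := GrpSchLib.flat_spec_map_field (algebraMap κ L)
    exact ⟨inferInstanceAs (Flat (pullback.fst πη.left α)), inferInstanceAs (Surjective (pullback.fst πη.left α)),
      inferInstanceAs (QuasiCompact (pullback.fst πη.left α))⟩
  have hover : ∀ σ, (p₁ ≫ jX) ≫ f = (p₂ ≫ sg σ ≫ sF ≫ jX) ≫ f := fun σ => by
    simp only [Category.assoc, hη, reassoc_of% hsF, reassoc_of% (hsg σ), reassoc_of% hL]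
  choose d hd hd' using fun σ => hdiv _ _ (hover σ)
  let Ψ : XL ⟶ A := ∏ σ, d σ
  obtain ⟨Ψη, hΨ⟩ := exists_desc_of_cover hp₁ Ψ fun W g₁ g₂ h => by
    -- reduce to the universal pair
    let P : Over (Spec (CommRingCat.of k)) := Over.mk (pullback.fst p₁.left p₁.left ≫ XL.hom)
    let u₁ : P ⟶ XL := Over.homMk (pullback.fst p₁.left p₁.left) rfl
    let u₂ : P ⟶ XL := Over.homMk (pullback.snd p₁.left p₁.left) (by
      show _ ≫ XL.hom = _ ≫ XL.hom
      rw [← Over.w p₁, ← reassoc_of% (pullback.condition (f := p₁.left) (g := p₁.left))])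
    have hu : u₁ ≫ p₁ = u₂ ≫ p₁ := Over.OverMorphism.ext pullback.condition
    let w : W ⟶ P := Over.homMk (pullback.lift g₁.left g₂.left (congrArg CommaMorphism.left h)) (by
      show _ ≫ pullback.fst _ _ ≫ XL.hom = _
      rw [pullback.lift_fst_assoc, Over.w])
    have hw₁ : w ≫ u₁ = g₁ := Over.OverMorphism.ext (pullback.lift_fst _ _ _)
    have hw₂ : w ≫ u₂ = g₂ := Over.OverMorphism.ext (pullback.lift_snd _ _ _)
    rw [← hw₁, ← hw₂, Category.assoc, Category.assoc]
    suffices u₁ ≫ Ψ = u₂ ≫ Ψ by rw [this]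
    haveI : IsReduced P.left := by
      haveI : Smooth (pullback.fst πη.left α) := inferInstance
      haveI : Smooth p₁.left := inferInstanceAs (Smooth (pullback.fst πη.left α))
      exact H23.RigidGamma.isReduced_of_smooth (k := κ)
        (pullback.fst p₁.left p₁.left ≫ p₁.left ≫ πη.left : pullback p₁.left p₁.left ⟶ Spec (CommRingCat.of κ))
    refine Over.OverMorphism.ext (ext_of_fromSpecResidueField_eq _ _ A.hom Set.univ dense_univ (fun z _ => ?_)
      ((Over.w (u₁ ≫ Ψ)).trans (Over.w (u₂ ≫ Ψ)).symm))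
    let Ω : Type u := P.left.residueField z
    let τ : Over.mk (P.left.fromSpecResidueField z ≫ P.hom) ⟶ P := Over.homMk (P.left.fromSpecResidueField z) rfl
    change (τ ≫ u₁ ≫ Ψ).left = (τ ≫ u₂ ≫ Ψ).left
    congr 1
    obtain ⟨φ₁, hφ₁⟩ : ∃ φ : CommRingCat.of L ⟶ P.left.residueField z, Spec.map φ = (τ ≫ u₁ ≫ p₂).left :=
      ⟨_, Spec.map_preimage _⟩
    obtain ⟨φ₂, hφ₂⟩ : ∃ φ : CommRingCat.of L ⟶ P.left.residueField z, Spec.map φ = (τ ≫ u₂ ≫ p₂).left :=
      ⟨_, Spec.map_preimage _⟩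
    have hφ : CommRingCat.ofHom (algebraMap κ L) ≫ φ₁ = CommRingCat.ofHom (algebraMap κ L) ≫ φ₂ := by
      refine Spec.map_injective ?_
      rw [Spec.map_comp, Spec.map_comp, hφ₁, hφ₂]
      have e : (τ ≫ u₁ ≫ p₂) ≫ πF = (τ ≫ u₂ ≫ p₂) ≫ πF := by
        simp only [Category.assoc, ← hL, reassoc_of% hu]
      exact congrArg CommaMorphism.left e
    let _ : Algebra L Ω := φ₁.hom.toAlgebra
    let _ : Algebra κ Ω := (φ₁.hom.comp (algebraMap κ L)).toAlgebra
    haveI : IsScalarTower κ L Ω := IsScalarTower.of_algebraMap_eq fun _ => rfl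
    let φ₂' : L →ₐ[κ] Ω := { φ₂.hom with commutes' := fun c => (congrArg (fun m => m.hom c) hφ).symm }
    let σ₀ : L ≃ₐ[κ] L := φ₂'.restrictNormal' L
    have hσ₀ : τ ≫ u₂ ≫ p₂ = (τ ≫ u₁ ≫ p₂) ≫ sg σ₀ := Over.OverMorphism.ext (by
      show (τ ≫ u₂ ≫ p₂).left = (τ ≫ u₁ ≫ p₂).left ≫ Spec.map _
      rw [← hφ₂, ← hφ₁, ← Spec.map_comp]
      congr 1
      exact CommRingCat.hom_ext (RingHom.ext fun x => (φ₂'.restrictNormal_commutes L x).symm))
    simp only [Ψ, comp_prod]
    refine (Fintype.prod_equiv (Equiv.mulLeft σ₀) _ _ fun σ => ?_).symm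
    refine (hdiv ((τ ≫ u₂) ≫ p₁ ≫ jX) ((τ ≫ u₂) ≫ p₂ ≫ sg σ ≫ sF ≫ jX) (by
      rw [Category.assoc, hover σ, ← Category.assoc])).unique ?_ ?_
    · rw [← Category.assoc τ u₂ (d σ), ← comp_lift_assoc, Category.assoc, ← hd σ]
      simp
    · have e : (τ ≫ u₂) ≫ p₂ ≫ sg σ ≫ sF ≫ jX = (τ ≫ u₁) ≫ p₂ ≫ sg (σ₀ * σ) ≫ sF ≫ jX := by
        simp only [← hsg_mul, Category.assoc, reassoc_of% hσ₀]
      rw [e, ← Category.assoc τ, ← comp_lift_assoc, Equiv.coe_mulLeft, hd (σ₀ * σ)]
      simp only [Category.assoc, reassoc_of% hu]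
  -- the action on the generic fibre
  let n := Fintype.card (L ≃ₐ[κ] L)
  have hact : (lift (fst A Xη) (snd A Xη ≫ jX) ≫ a.act) ≫ f = (snd A Xη ≫ πη) ≫ ε := by
    rw [Category.assoc, hinv, lift_snd_assoc, Category.assoc, Category.assoc, hη]
  let aη : A ⊗ Xη ⟶ Xη := Over.homMk
    (pullback.lift (lift (fst A Xη) (snd A Xη ≫ jX) ≫ a.act).left (snd A Xη ≫ πη).left
      (congrArg CommaMorphism.left hact)) (by
    show _ ≫ pullback.fst _ _ ≫ X.hom = _
    rw [pullback.lift_fst_assoc, Over.w])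
  have haη₁ : aη ≫ jX = lift (fst A Xη) (snd A Xη ≫ jX) ≫ a.act :=
    Over.OverMorphism.ext (pullback.lift_fst _ _ _)
  have haη₂ : aη ≫ πη = snd A Xη ≫ πη := Over.OverMorphism.ext (pullback.lift_snd _ _ _)
  have hpow : aη ≫ Ψη = fst A Xη ^ n * (snd A Xη ≫ Ψη) := by
    have hc : IsCover (A ◁ p₁) := IsCover.whiskerLeft hp₁ A
    let aL : A ⊗ XL ⟶ XL := Over.homMk
      (pullback.lift ((A ◁ p₁) ≫ aη).left (snd A XL ≫ p₂).left (by
        have e : ((A ◁ p₁) ≫ aη) ≫ πη = (snd A XL ≫ p₂) ≫ πF := by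
          rw [Category.assoc, haη₂, whiskerLeft_snd_assoc, Category.assoc, hL]
        exact congrArg CommaMorphism.left e)) (by
      show _ ≫ pullback.fst πη.left α ≫ Xη.hom = _
      exact (pullback.lift_fst_assoc _ _ _ _).trans (Over.w ((A ◁ p₁) ≫ aη)))
    have haL₁ : aL ≫ p₁ = (A ◁ p₁) ≫ aη := Over.OverMorphism.ext (pullback.lift_fst _ _ _)
    have haL₂ : aL ≫ p₂ = snd A XL ≫ p₂ := Over.OverMorphism.ext (pullback.lift_snd _ _ _)
    have key : ∀ σ, aL ≫ d σ = fst A XL * (snd A XL ≫ d σ) := fun σ => by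
      refine (hdiv (aL ≫ p₁ ≫ jX) (aL ≫ p₂ ≫ sg σ ≫ sF ≫ jX) (by
        rw [Category.assoc, hover σ, ← Category.assoc])).unique ?_ ?_
      · rw [← comp_lift_assoc, hd σ]
      · rw [reassoc_of% haL₂, ← GrpSchLib.act_mul, ← comp_lift_assoc, hd σ, reassoc_of% haL₁, haη₁,
          comp_lift_assoc]
        simp
    have := hc.epi
    rw [← cancel_epi (A ◁ p₁), ← reassoc_of% haL₁, hΨ, MonObj.comp_mul, whiskerLeft_snd_assoc, hΨ,
      MonObj.comp_pow, whiskerLeft_fst]
    simp only [Ψ, comp_prod, key, Finset.prod_mul_distrib, Finset.prod_const, Finset.card_univ, n]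
  -- spread out and extend
  haveI : IrreducibleSpace Y.left := inferInstance
  have hdomf : f.left (genericPoint X.left) = η₀ := by
    obtain ⟨x, hx⟩ := f.left.surjective η₀
    exact ((genericPoint_specializes x).map f.left.continuous |>.trans (specializes_of_eq hx)).antisymm
      (genericPoint_specializes _) |>.eq
  haveI : IsIntegral Xη.left := by
    obtain ⟨z₀, hz₀, -⟩ := Scheme.Pullback.exists_preimage_pullback (f := f.left) (g := ε.left) (genericPoint X.left)
      (closedPoint κ) (hdomf.trans (hε₀ _).symm)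
    haveI : IrreducibleSpace Xη.left := by
      have hgen : ∀ z : Xη.left, z₀ ⤳ z := fun z => (pullback.fst f.left ε.left).isEmbedding.isInducing.specializes_iff.1
        ((specializes_of_eq hz₀).trans (genericPoint_specializes _))
      haveI : PreirreducibleSpace Xη.left := ⟨by
        have : closure ({z₀} : Set Xη.left) = Set.univ :=
          Set.eq_univ_of_forall fun z => (hgen z).mem_closure
        rw [← this]; exact isPreirreducible_singleton.closure⟩
      exact ⟨inferInstance⟩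
    exact @isIntegral_of_irreducibleSpace_of_isReduced Xη.left ‹_› ‹_›
  have hgen : jX.left (genericPoint Xη.left) = genericPoint X.left := by
    obtain ⟨z₀, hz₀, -⟩ := Scheme.Pullback.exists_preimage_pullback (f := f.left) (g := ε.left) (genericPoint X.left)
      (closedPoint κ) (hdomf.trans (hε₀ _).symm)
    exact (((genericPoint_specializes (α := Xη.left) z₀).map jX.left.continuous).trans (specializes_of_eq hz₀)).antisymm
      (genericPoint_specializes _) |>.eq
  haveI : Flat jX.left := inferInstanceAs (Flat (pullback.fst f.left ε.left))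
  haveI : IsPreimmersion jX.left := inferInstanceAs (IsPreimmersion (pullback.fst f.left ε.left))
  haveI : A.left.IsSeparated := ⟨by rw [← terminal.comp_from A.hom]; exact inferInstance⟩
  obtain ⟨W, H, hW, hH, hHl⟩ := H23.RatExtend.exists_spread X.hom A.hom jX.left hgen Ψη.left (Over.w Ψη)
  have hWne : (W : Set X.left).Nonempty := ⟨_, hW ⟨genericPoint Xη.left, rfl⟩⟩
  obtain ⟨φ, hφ⟩ := H23.RatExt.exists_extension W hWne H hH
  have hjφ : jX ≫ φ = Ψη := by
    refine Over.OverMorphism.ext ?_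
    let l : Xη.left ⟶ W.toScheme := IsOpenImmersion.lift W.ι jX.left (hW.trans (Scheme.Opens.range_ι W).ge)
    have hl : l ≫ W.ι = 𝟙 _ ≫ jX.left := by rw [IsOpenImmersion.lift_fac, Category.id_comp]
    have := hHl (𝟙 _) l hl
    rw [← hφ, reassoc_of% hl, Category.id_comp] at this
    exact this
  -- separate the variables
  obtain ⟨⟨f₁, f₂, hf⟩, -⟩ := Groth.Agent.S11993.result k A X A η[A] (a.act ≫ φ)
  let h : A ⟶ A := f₁ * (toUnit A ≫ η[A] ≫ f₁)⁻¹
  have hf' : a.act ≫ φ = (fst A X ≫ h) * (snd A X ≫ φ) := by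
    have h1 : φ = (toUnit X ≫ η[A] ≫ f₁) * f₂ := by
      have := congrArg (lift (1 : X ⟶ A) (𝟙 X) ≫ ·) hf
      simp only [MonObj.comp_mul, lift_fst_assoc, lift_snd_assoc, Category.id_comp,
        reassoc_of% (GrpSchLib.act_one a (𝟙 X))] at this
      exact this.trans (congrArg (· * f₂) (Category.assoc _ _ _))
    conv_rhs => rw [h1]
    simp only [h, MonObj.comp_mul, GrpObj.comp_inv, hf]
    rw [← Category.assoc (fst A X), comp_toUnit, ← Category.assoc (snd A X), comp_toUnit]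
    group
  have hh : h = 𝟙 A ^ n := by
    haveI : QuasiCompact Xη.hom := inferInstanceAs (QuasiCompact (pullback.fst f.left ε.left ≫ X.hom))
    refine H23.RatProductK.epi_fst (W := Xη) ?_
    rw [MonObj.comp_pow, Category.comp_id]
    have := congrArg (lift (fst A Xη) (snd A Xη ≫ jX) ≫ ·) hf'
    simp only [MonObj.comp_mul, lift_fst_assoc, lift_snd_assoc, Category.assoc, ← reassoc_of% haη₁, hjφ] at this
    exact mul_right_cancel (this.symm.trans hpow)
  refine ⟨φ, n, Fintype.card_pos, fun T b x => ?_⟩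
  rw [hf', hh, MonObj.comp_mul, lift_fst_assoc, lift_snd_assoc, MonObj.comp_pow, Category.comp_id, _root_.mul_comm]

end Groth.Agent.AlgGrpH24
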