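import Groth.Agent.AGF27.Unip.Scheme
import Groth.Agent.AGFHopf.UniApps
import Groth.Agent.AGFHopf.SchNilp
import Groth.Agent.GrpSchLib.SmoothReduced

/-!
# Unipotent groups in positive characteristic are killed by a power of `p`
-/

universe u

open CategoryTheory CategoryTheory.Limits MonoidalCategory CartesianMonoidalCategory MonObj AlgebraicGeometry
open TensorProduct WithConv
open Groth.Agent.GrpSchLib Groth.Agent.GrpSchLib.Kunneth
open scoped Groth.Agent.AGF27

set_option linter.style.haveILetI false

namespace Groth.Agent.AlgGrpH24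

variable {k : Type u} [Field k] [IsAlgClosed k]

/-- A smooth connected affine group without subtorus in characteristic `p` has exponent a power of `p`. -/
theorem exists_pow_eq_one_of_hasNoSubtorus (p : ℕ) [Fact p.Prime] [CharP k p]
    (U : Over (Spec (CommRingCat.of k))) [GrpObj U] [IsAffine U.left] [Smooth U.hom] [ConnectedSpace U.left]
    (hU : Red.HasNoSubtorus k U) : ∃ e : ℕ, (𝟙 U : U ⟶ U) ^ p ^ e = 1 := by
  haveI : LocallyOfFiniteType U.hom := inferInstance
  haveI : IsReduced U.left := GrpSchLib.isReduced_of_smooth_field U.hom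
  obtain ⟨n, M, hM, hgen⟩ := AGFHopf.exists_generating_uniMatrix (AGF27.Unip.isUnipotent_fn U hU)
  refine ⟨n + 1, AGFHopf.hom_ext_pts fun x => ?_⟩
  rw [MonObj.comp_pow, Category.comp_id, MonObj.comp_one]
  refine (AGF27.ptConv U).injective ?_
  rw [map_pow, map_one]
  exact AGFHopf.pow_char_pow_eq_one p hM hgen _

end Groth.Agent.AlgGrpH24
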